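import Cfsg.Agent.Lib.StarAction.Count
import Cfsg.Agent.Lib.BlockReg.Height
import Cfsg.Agent.Lib.Blocks.Pairs.Saturation
import Cfsg.Agent.S5252

/-!
# Characters of height zero when the automorphism group of the defect group is a `p`-group

The squares of the degrees in a block, divided by the least `p`-part, sum to a multiple of the
order of the defect group. For `p ≥ 5` the focal subgroup is proper, so the twists act freely on
the characters of height zero with orbits of length divisible by `p`.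
-/

set_option autoImplicit false
set_option maxHeartbeats 400000

namespace CfsgLib.StarAction

open Cfsg CfsgLib.Blocks CfsgLib.Blocks.Pairs CfsgLib.BlockReg
open scoped Classical

universe u

/-- A sum invariant under a free action is `|D|` times a sum over representatives. -/
theorem sum_eq_card_mul_of_free {D : Type*} [Group D] [Finite D] {X : Type*} [Fintype X]
    [MulAction D X] (hfree : ∀ x : X, MulAction.stabilizer D x = ⊥) {f : X → ℕ}
    (hf : ∀ (d : D) (x : X), f (d • x) = f x) :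
    ∃ T : Finset X, Nat.card X = Nat.card D * T.card ∧ ∑ x, f x = Nat.card D * ∑ x ∈ T, f x := by
  haveI := Fintype.ofFinite (Quotient (MulAction.orbitRel D X))
  refine ⟨(Finset.univ : Finset (Quotient (MulAction.orbitRel D X))).image Quotient.out, ?_, ?_⟩
  · rw [Finset.card_image_of_injective _ Quotient.out_injective,
      Nat.card_congr (MulAction.selfEquivSigmaOrbits D X), Nat.card_sigma,
      Finset.sum_congr rfl fun ω _ => ?_, Finset.sum_const, smul_eq_mul, mul_comm]
    rw [Nat.card_coe_set_eq, ← MulAction.index_stabilizer, hfree, Subgroup.index_bot]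
  · rw [Finset.sum_image Quotient.out_injective.injOn, Finset.mul_sum,
      ← (MulAction.selfEquivSigmaOrbits D X).symm.sum_comp, Fintype.sum_sigma]
    refine Finset.sum_congr rfl fun ω _ => ?_
    have hcard : Fintype.card (MulAction.orbit D ω.out) = Nat.card D := by
      rw [← Nat.card_eq_fintype_card, Nat.card_coe_set_eq, ← MulAction.index_stabilizer, hfree,
        Subgroup.index_bot]
    rw [Finset.sum_congr rfl fun y _ => show f _ = f ω.out from ?_, Finset.sum_const,
      Finset.card_univ, hcard, smul_eq_mul]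
    obtain ⟨d, hd⟩ := y.2
    show f (y : X) = f ω.out
    rw [← hd]
    exact hf d _

theorem one_eq_sq_zmod_two : ∀ x : ZMod 2, x ≠ 0 → 1 = x ^ 2 := by decide

theorem one_eq_sq_zmod_three : ∀ x : ZMod 3, x ≠ 0 → 1 = x ^ 2 := by decide

variable {G : Type u} [Group G] [Fintype G] {p : ℕ} [Fact p.Prime] {M : Ideal AlgInt}

/-- The reduced degree. -/
noncomputable def redDeg (p : ℕ) (B : Set (IrrCharacter G)) (χ : IrrCharacter G) : ℕ :=
  charDegree (χ : G → ℂ) / p ^ minExp p B

omit [Fact p.Prime] in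
theorem redDeg_mul {B : Set (IrrCharacter G)} {χ : IrrCharacter G} (hχ : χ ∈ B) :
    redDeg p B χ * p ^ minExp p B = charDegree (χ : G → ℂ) :=
  Nat.div_mul_cancel ((pow_dvd_pow p (minExp_le hχ)).trans (Nat.ordProj_dvd _ p))

theorem pow_dvd_redDeg_iff {B : Set (IrrCharacter G)} {χ : IrrCharacter G} (hχ : χ ∈ B) :
    p ∣ redDeg p B χ ↔ blockHeight p B (χ : G → ℂ) ≠ 0 := by
  have hp : p.Prime := Fact.out
  have h0 : redDeg p B χ ≠ 0 := fun h => (deg_pos χ).ne'
    (by rw [← redDeg_mul (p := p) hχ, h, zero_mul])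
  have hf : (charDegree (χ : G → ℂ)).factorization p =
      (redDeg p B χ).factorization p + minExp p B := by
    conv_lhs => rw [← redDeg_mul (p := p) hχ]
    rw [Nat.factorization_mul h0 (pow_ne_zero _ hp.ne_zero), Finsupp.add_apply,
      hp.factorization_pow, Finsupp.single_eq_same]
  rw [hp.dvd_iff_one_le_factorization h0]
  show _ ↔ (charDegree (χ : G → ℂ)).factorization p - minExp p B ≠ 0
  omega

/-- The sum of the squares of the reduced degrees is divisible by the order of a defect group. -/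
theorem pow_defect_dvd_sum (hM : IsPModular p M) {B : Set (IrrCharacter G)} (hB : IsPBlock M B) :
    p ^ blockDefect p B ∣ ∑ χ ∈ B.toFinset, redDeg p B χ ^ 2 := by
  have hp : p.Prime := Fact.out
  obtain ⟨ψ, hψ⟩ := block_nonempty hM hB
  have h := factorization_sum_sq hM hB
  rw [finsum_mem_eq_toFinset_sum, Finset.sum_congr rfl (g := fun χ => redDeg p B χ ^ 2 *
      (p ^ minExp p B) ^ 2) fun χ hχ => by
    rw [← redDeg_mul (p := p) (Set.mem_toFinset.1 hχ), mul_pow], ← Finset.sum_mul] at h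
  have hS0 : ∑ χ ∈ B.toFinset, redDeg p B χ ^ 2 ≠ 0 := fun h0 => by
    have := (Finset.sum_eq_zero_iff.1 h0) ψ (Set.mem_toFinset.2 hψ)
    rw [pow_eq_zero_iff two_ne_zero] at this
    exact (deg_pos ψ).ne' (by rw [← redDeg_mul (p := p) hψ, this, zero_mul])
  rw [Nat.factorization_mul hS0 (pow_ne_zero _ (pow_ne_zero _ hp.ne_zero)), Finsupp.add_apply,
    ← pow_mul, hp.factorization_pow, Finsupp.single_eq_same] at h
  rw [hp.pow_dvd_iff_le_factorization hS0, blockDefect_eq]
  omega

/-- Modulo `p ^ 2` only the characters of height zero matter. -/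
theorem sq_dvd_sum_height_zero (hM : IsPModular p M) {B : Set (IrrCharacter G)} (hB : IsPBlock M B)
    {n : ℕ} (hn : n ≤ 2) (hd : n ≤ blockDefect p B) :
    p ^ n ∣ ∑ χ : {χ : IrrCharacter G // χ ∈ B ∧ blockHeight p B (χ : G → ℂ) = 0},
      redDeg p B χ ^ 2 := by
  have h := (pow_dvd_pow p hd).trans (pow_defect_dvd_sum hM hB)
  rw [← Finset.sum_filter_add_sum_filter_not B.toFinset
    (fun χ => blockHeight p B ((χ : IrrCharacter G) : G → ℂ) = 0)] at h
  have h2 : p ^ n ∣ ∑ χ ∈ B.toFinset.filter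
      (fun χ => ¬ blockHeight p B ((χ : IrrCharacter G) : G → ℂ) = 0), redDeg p B χ ^ 2 :=
    Finset.dvd_sum fun χ hχ => (pow_dvd_pow p hn).trans (pow_dvd_pow_of_dvd
      ((pow_dvd_redDeg_iff (Set.mem_toFinset.1 (Finset.mem_filter.1 hχ).1)).2
        (Finset.mem_filter.1 hχ).2) 2)
  rw [← Finset.sum_subtype (B.toFinset.filter
    (fun χ => blockHeight p B ((χ : IrrCharacter G) : G → ℂ) = 0)) (fun χ => by simp)
    (fun χ : IrrCharacter G => redDeg p B χ ^ 2)]
  exact (Nat.dvd_add_left h2).1 h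

/-- For `p ≤ 3` the number of characters of height zero is divisible by `p`. -/
theorem dvd_heightZero_of_le_three (hM : IsPModular p M) {B : Set (IrrCharacter G)}
    (hB : IsPBlock M B) (hd : 1 ≤ blockDefect p B) (hp3 : p ≤ 3) :
    p ∣ Nat.card {χ : IrrCharacter G // χ ∈ B ∧ blockHeight p B (χ : G → ℂ) = 0} := by
  have h := sq_dvd_sum_height_zero hM hB (n := 1) one_le_two hd
  rw [pow_one, ← ZMod.natCast_eq_zero_iff, Nat.cast_sum] at h
  rw [← ZMod.natCast_eq_zero_iff, ← h, Nat.card_eq_fintype_card, ← Finset.card_univ,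
    Finset.card_eq_sum_ones, Nat.cast_sum]
  refine Finset.sum_congr rfl fun χ _ => ?_
  have h1 : ((redDeg p B χ.1 : ℕ) : ZMod p) ≠ 0 := fun h0 => (pow_dvd_redDeg_iff χ.2.1).1
    ((ZMod.natCast_eq_zero_iff _ _).1 h0) χ.2.2
  rw [Nat.cast_pow, Nat.cast_one]
  rcases Nat.lt_or_ge p 3 with hlt | hge
  · obtain rfl : p = 2 := le_antisymm (by omega) (Fact.out : p.Prime).two_le
    exact one_eq_sq_zmod_two _ h1
  · obtain rfl : p = 3 := le_antisymm hp3 hge
    exact one_eq_sq_zmod_three _ h1

/-- **Height zero counts** when the automorphism group of the defect group is a `p`-group. -/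
theorem heightZero_of_isPGroup_mulAut (hM : IsPModular p M) {B : Set (IrrCharacter G)}
    (hB : IsPBlock M B) {D : Subgroup G} (hD : IsDefectGroup p M B D) (hD1 : D ≠ ⊥)
    (hAut : IsPGroup p (MulAut D)) :
    let k0 := Nat.card {χ : IrrCharacter G // χ ∈ B ∧ blockHeight p B (χ : G → ℂ) = 0}
    p ∣ k0 ∧ (3 < p → 2 * p ≤ k0) ∧ (3 < p → p % 4 = 3 → 3 * p ≤ k0) := by
  have hp : p.Prime := Fact.out
  haveI := isMaximal_of_isPModular hM
  haveI : CharP (ResField M) p := charP_resField hM.1 (natCast_mem_of_isPModular hM)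
  intro k0
  have hcard := card_defectGroup hM hB hD
  have hd1 : 1 ≤ blockDefect p B := Nat.one_le_iff_ne_zero.2 fun h0 =>
    hD1 (Subgroup.card_eq_one.1 (by rw [hcard, h0, pow_zero]))
  obtain hp3 | hp5 := le_or_gt p 3
  · exact ⟨dvd_heightZero_of_le_three hM hB hd1 hp3, fun h => by omega, fun h => by omega⟩
  have hp5' : 5 ≤ p := by
    rcases Nat.lt_or_ge p 5 with h | h
    · interval_cases p; exact absurd hp (by decide)
    · exact h
  have hmax := (isDefectGroup_iff_maxR hM hB).1 hD
  obtain ⟨e, hP⟩ := exists_pairOf (isBlockIdem_ebar hB) hmax.pgroup hmax.ne_zero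
  have hno := hmax.noExt hP
  set F := pairFusion p D e hP.pair with hF
  have hlt : F.focalSubgroup < D :=
    Cfsg.Agent.S5252.result p hP.pair.pgroup F (isSaturated_pairFusion hM hP hno) hp5' hD1
      (hAut.to_subgroup _)
  have hd2 : 2 ≤ blockDefect p B := by
    by_contra h2
    have hDp : Nat.card D = p := by rw [hcard, show blockDefect p B = 1 by omega, pow_one]
    haveI : IsCyclic D := isCyclic_of_prime_card hDp
    obtain ⟨k, hk⟩ := IsPGroup.iff_card.1 hAut
    rw [IsCyclic.card_mulAut, hDp, Nat.totient_prime hp] at hk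
    rcases Nat.eq_zero_or_pos k with rfl | hk0
    · rw [pow_zero] at hk; omega
    · have h3 := Nat.le_self_pow hk0.ne' p
      omega
  obtain ⟨D', iD, hfin, act, R, hR, hDcard, hdeg, hle⟩ := exists_focal_action hM hB hP hno 0 ⊤
    fun χ hχ h0 u _ b hb => exists_blockPart_ne_zero_of_height_zero hM hB hP hno hχ h0 u.2 b hb
  rw [Subgroup.relIndex_top_right, ← hDcard] at hR
  have hRbot : R = ⊥ := by
    have h1 := R.card_mul_index
    rw [hR] at h1
    exact Subgroup.card_eq_one.1 (Nat.eq_of_mul_eq_mul_right Nat.card_pos (h1.trans (one_mul _).symm))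
  subst hRbot
  obtain ⟨j, hj⟩ : ∃ j, Nat.card D' = p ^ (j + 1) := by
    obtain ⟨i, -, hi⟩ := (Nat.dvd_prime_pow hp).1
      (hDcard ▸ hcard ▸ Subgroup.index_dvd_card (F.focalSubgroup.subgroupOf D))
    rcases i with _ | j
    · refine absurd (hDcard.symm.trans hi) fun h1 => hlt.not_ge ?_
      rw [pow_zero, Subgroup.index_eq_one, Subgroup.subgroupOf_eq_top] at h1
      exact h1
    · exact ⟨j, hi⟩
  obtain ⟨T, hT1, hT2⟩ := sum_eq_card_mul_of_free (fun x => le_bot_iff.1 (hle x))
    (f := fun χ : {χ : IrrCharacter G // χ ∈ B ∧ blockHeight p B (χ : G → ℂ) = 0} =>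
      redDeg p B χ.1 ^ 2)
    fun φ χ => by simp only [redDeg, hdeg φ χ]
  have hk : k0 = p ^ (j + 1) * T.card := by rw [← hj]; exact hT1
  refine ⟨hk ▸ Dvd.dvd.mul_right (dvd_pow_self p (Nat.succ_ne_zero j)) _, ?_⟩
  have hTne : T.Nonempty := by
    obtain ⟨χ, hχ, hh⟩ := exists_minExp (p := p) (block_nonempty hM hB)
    have hmem : blockHeight p B (χ : G → ℂ) = 0 := by
      show (charDegree (χ : G → ℂ)).factorization p - minExp p B = 0
      omega
    rw [← Finset.card_ne_zero]
    intro h0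
    rw [h0, mul_zero] at hT1
    haveI : Nonempty {χ : IrrCharacter G // χ ∈ B ∧ blockHeight p B (χ : G → ℂ) = 0} :=
      ⟨⟨χ, hχ, hmem⟩⟩
    exact Nat.card_pos.ne' hT1
  rcases j with _ | j
  swap
  · have h4 : p ^ 2 ≤ k0 := by
      rw [hk]
      exact le_mul_of_le_of_one_le (Nat.pow_le_pow_right hp.pos (by omega)) hTne.card_pos
    have h5 : p * p ≤ k0 := by rwa [sq] at h4
    exact ⟨fun _ => le_trans (Nat.mul_le_mul_right p (by omega : 2 ≤ p)) h5,
      fun _ _ => le_trans (Nat.mul_le_mul_right p (by omega : 3 ≤ p)) h5⟩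
  rw [zero_add, pow_one] at hk hj
  have hdvd : p ∣ ∑ χ ∈ T, redDeg p B χ.1 ^ 2 := by
    have h := sq_dvd_sum_height_zero hM hB (n := 2) le_rfl hd2
    rw [hT2, hj, sq] at h
    exact Nat.dvd_of_mul_dvd_mul_left hp.pos h
  have hnz : ∀ χ ∈ T, ((redDeg p B χ.1 : ℕ) : ZMod p) ≠ 0 := fun χ _ h0 =>
    (pow_dvd_redDeg_iff χ.2.1).1 ((ZMod.natCast_eq_zero_iff _ _).1 h0) χ.2.2
  rw [← ZMod.natCast_eq_zero_iff, Nat.cast_sum] at hdvd
  have hT2' : 2 ≤ T.card := by
    by_contra h
    obtain ⟨a, rfl⟩ := Finset.card_eq_one.1 (show T.card = 1 by have := hTne.card_pos; omega)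
    rw [Finset.sum_singleton, Nat.cast_pow, pow_eq_zero_iff two_ne_zero] at hdvd
    exact hnz a (Finset.mem_singleton_self a) hdvd
  refine ⟨fun _ => by rw [hk, mul_comm 2]; exact Nat.mul_le_mul_left p hT2', fun _ h34 => ?_⟩
  rw [hk, mul_comm 3]
  refine Nat.mul_le_mul_left p ?_
  by_contra h
  obtain ⟨a, b, hab, rfl⟩ := Finset.card_eq_two.1 (show T.card = 2 by omega)
  rw [Finset.sum_pair hab, Nat.cast_pow, Nat.cast_pow] at hdvd
  have hb := hnz b (by simp)
  have hsq : IsSquare (-1 : ZMod p) := ⟨(redDeg p B a.1 : ZMod p) / (redDeg p B b.1 : ZMod p), by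
    field_simp
    linear_combination -hdvd⟩
  exact ZMod.exists_sq_eq_neg_one_iff.1 hsq h34

end CfsgLib.StarAction
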