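import Cfsg.Agent.Lib.StarAction.Lift
import Cfsg.Agent.Lib.Blocks.Trace
import Cfsg.Agent.Lib.Blocks.Section
import Cfsg.Agent.Lib.Blocks.ClassSum
import Mathlib.Data.Matrix.ColumnRowPartitioned
import Mathlib.LinearAlgebra.Matrix.Rank

/-!
# Fixed-point blocks of matrices commuting with a permutation action

For a `p`-group acting on the index set, restricting a commuting matrix to the fixed points is
multiplicative modulo `p` (the Brauer map). The trace of a `p`-element times a commuting
idempotent over the local ring is the rank of the fixed-point block of its reduction.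
-/

set_option autoImplicit false

namespace CfsgLib.StarAction

open Cfsg CfsgLib.Blocks Matrix
open scoped Classical

/-- Keep only the rows and columns in `Φ`. -/
noncomputable def mask {R X : Type*} [Zero R] (Φ : Set X) (A : Matrix X X R) : Matrix X X R :=
  Matrix.of fun x y => if x ∈ Φ ∧ y ∈ Φ then A x y else 0

theorem mask_apply {R X : Type*} [Zero R] (Φ : Set X) (A : Matrix X X R) (x y : X) :
    mask Φ A x y = if x ∈ Φ ∧ y ∈ Φ then A x y else 0 := rfl

theorem mask_mask {R X : Type*} [Zero R] (Φ Φ' : Set X) (A : Matrix X X R) :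
    mask Φ (mask Φ' A) = mask (Φ ∩ Φ') A := by
  ext x y
  simp only [mask_apply, Set.mem_inter_iff]
  by_cases hx : x ∈ Φ <;> by_cases hy : y ∈ Φ <;> simp [hx, hy]

theorem mask_zero {R X : Type*} [Zero R] (Φ : Set X) : mask Φ (0 : Matrix X X R) = 0 := by
  ext x y; simp [mask_apply]

theorem mask_sum {R X ι : Type*} [AddCommMonoid R] (Φ : Set X) (s : Finset ι)
    (A : ι → Matrix X X R) : mask Φ (∑ i ∈ s, A i) = ∑ i ∈ s, mask Φ (A i) := by
  ext x y
  simp only [mask_apply, Matrix.sum_apply]
  split_ifs <;> simp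

/-- The Brauer map is multiplicative. -/
theorem mask_mul {F X : Type*} [Field F] {p : ℕ} [Fact p.Prime] [CharP F p] [Fintype X]
    {P : Type*} [Group P] [MulAction P X] (hP : IsPGroup p P) {A B : Matrix X X F}
    (hA : ∀ (u : P) x y, A (u • x) (u • y) = A x y) (hB : ∀ (u : P) x y, B (u • x) (u • y) = B x y) :
    mask (MulAction.fixedPoints P X) (A * B) =
      mask (MulAction.fixedPoints P X) A * mask (MulAction.fixedPoints P X) B := by
  ext x z
  rw [Matrix.mul_apply, mask_apply]
  by_cases h : x ∈ MulAction.fixedPoints P X ∧ z ∈ MulAction.fixedPoints P X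
  · rw [if_pos h, Matrix.mul_apply, sum_eq_sum_fixed hP (fun y => A x y * B y z) (fun u y => by
      show A x (u • y) * B (u • y) z = A x y * B y z
      conv_lhs => rw [← h.1 u, ← h.2 u]
      rw [hA, hB]), Finset.sum_filter]
    refine Finset.sum_congr rfl fun y _ => ?_
    simp only [mask_apply, h.1, h.2, true_and, and_true]
    split_ifs with hy <;> simp
  · rw [if_neg h]
    refine (Finset.sum_eq_zero fun y _ => ?_).symm
    simp only [mask_apply]
    by_cases hx : x ∈ MulAction.fixedPoints P X
    · simp [show z ∉ MulAction.fixedPoints P X from fun hz => h ⟨hx, hz⟩]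
    · simp [hx]

section Rank

variable {F X : Type*} [Field F] [Fintype X] [DecidableEq X]

/-- An idempotent factors through a space of dimension its rank. -/
theorem exists_factor {P : Matrix X X F} (hP : P * P = P) :
    ∃ (A : Matrix X (Fin P.rank) F) (L : Matrix (Fin P.rank) X F), A * L = P ∧ L * A = 1 := by
  set f := P.mulVecLin with hf
  have hff : f.comp f = f := by rw [hf, ← Matrix.mulVecLin_mul, hP]
  let b : Module.Basis (Fin P.rank) F (LinearMap.range f) := Module.finBasis F (LinearMap.range f)
  let ι : (Fin P.rank → F) →ₗ[F] (X → F) :=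
    (LinearMap.range f).subtype.comp b.equivFun.symm.toLinearMap
  let π : (X → F) →ₗ[F] (Fin P.rank → F) := b.equivFun.toLinearMap.comp f.rangeRestrict
  refine ⟨LinearMap.toMatrix' ι, LinearMap.toMatrix' π, ?_, ?_⟩
  · rw [← LinearMap.toMatrix'_comp]
    have : ι.comp π = f := by ext v; simp [ι, π]
    rw [this, hf, ← Matrix.toLin'_apply', LinearMap.toMatrix'_toLin']
  · rw [← LinearMap.toMatrix'_comp]
    have : π.comp ι = LinearMap.id := by
      refine LinearMap.ext fun v => ?_
      have h1 : f.rangeRestrict (b.equivFun.symm v : X → F) = b.equivFun.symm v := by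
        apply Subtype.ext
        obtain ⟨w, hw⟩ := (b.equivFun.symm v).2
        rw [LinearMap.codRestrict_apply, ← hw]
        exact LinearMap.congr_fun hff w
      simp only [π, ι, LinearMap.comp_apply, LinearEquiv.coe_coe, Submodule.coe_subtype, h1,
        LinearEquiv.apply_symm_apply, LinearMap.id_apply]
    rw [this, LinearMap.toMatrix'_id]

theorem rank_eq_card_of_factor {Ψ : Type*} [Fintype Ψ] [DecidableEq Ψ] {P : Matrix X X F}
    (A : Matrix X Ψ F) (L : Matrix Ψ X F) (hAL : A * L = P) (hLA : L * A = 1) :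
    P.rank = Fintype.card Ψ := by
  refine le_antisymm ?_ ?_
  · rw [← hAL]; exact (Matrix.rank_mul_le_left A L).trans (Matrix.rank_le_card_width A)
  · rw [← Matrix.rank_one (R := F) (n := Ψ),
      show (1 : Matrix Ψ Ψ F) = L * (P * A) by rw [← hAL, Matrix.mul_assoc A L A, hLA, Matrix.mul_one, hLA]]
    exact (Matrix.rank_mul_le_right _ _).trans (Matrix.rank_mul_le_left _ _)

/-- The trace of an idempotent is its rank. -/
theorem trace_idem {P : Matrix X X F} (hP : P * P = P) : P.trace = (P.rank : F) := by
  obtain ⟨A, L, hAL, hLA⟩ := exists_factor hP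
  conv_lhs => rw [← hAL, Matrix.trace_mul_comm, hLA, Matrix.trace_one, Fintype.card_fin]

theorem rank_add_idem {P Q : Matrix X X F} (hP : P * P = P) (hQ : Q * Q = Q) (hPQ : P * Q = 0)
    (hQP : Q * P = 0) : (P + Q).rank = P.rank + Q.rank := by
  obtain ⟨A, L, hAL, hLA⟩ := exists_factor hP
  obtain ⟨A', L', hAL', hLA'⟩ := exists_factor hQ
  have h0 : L * A' = 0 := by
    calc L * A' = (L * A) * L * (A' * (L' * A')) := by rw [hLA, hLA', Matrix.one_mul, Matrix.mul_one]
      _ = L * ((A * L) * (A' * L')) * A' := by simp only [Matrix.mul_assoc]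
      _ = 0 := by rw [hAL, hAL', hPQ, Matrix.mul_zero, Matrix.zero_mul]
  have h0' : L' * A = 0 := by
    calc L' * A = (L' * A') * L' * (A * (L * A)) := by rw [hLA, hLA', Matrix.one_mul, Matrix.mul_one]
      _ = L' * ((A' * L') * (A * L)) * A := by simp only [Matrix.mul_assoc]
      _ = 0 := by rw [hAL, hAL', hQP, Matrix.mul_zero, Matrix.zero_mul]
  rw [rank_eq_card_of_factor (Matrix.fromCols A A') (Matrix.fromRows L L')
    (by rw [Matrix.fromCols_mul_fromRows, hAL, hAL'])
    (by rw [Matrix.fromRows_mul_fromCols, hLA, hLA', h0, h0', Matrix.fromBlocks_one]),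
    Fintype.card_sum, Fintype.card_fin, Fintype.card_fin]

theorem rank_sum_idem {ι : Type*} (s : Finset ι) (P : ι → Matrix X X F)
    (hP : ∀ i ∈ s, P i * P i = P i) (h : ∀ i ∈ s, ∀ j ∈ s, i ≠ j → P i * P j = 0) :
    (∑ i ∈ s, P i).rank = ∑ i ∈ s, (P i).rank := by
  induction s using Finset.induction with
  | empty => simp
  | insert a s ha ih =>
    have hP' := fun i (hi : i ∈ s) => hP i (Finset.mem_insert_of_mem hi)
    have h' := fun i (hi : i ∈ s) j (hj : j ∈ s) =>
      h i (Finset.mem_insert_of_mem hi) j (Finset.mem_insert_of_mem hj)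
    rw [Finset.sum_insert ha, Finset.sum_insert ha, rank_add_idem (hP a (Finset.mem_insert_self a s))
      ?_ ?_ ?_, ih hP' h']
    · rw [Finset.mul_sum]
      refine Finset.sum_congr rfl fun i hi => ?_
      rw [Finset.sum_mul, Finset.sum_eq_single i (fun j hj hne => h' j hj i hi hne)
        (fun hn => absurd hi hn), hP' i hi]
    · rw [Finset.mul_sum]
      exact Finset.sum_eq_zero fun i hi => h a (Finset.mem_insert_self a s) i
        (Finset.mem_insert_of_mem hi) fun he => ha (he ▸ hi)
    · rw [Finset.sum_mul]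
      exact Finset.sum_eq_zero fun i hi => h i (Finset.mem_insert_of_mem hi) a
        (Finset.mem_insert_self a s) fun he => ha (he.symm ▸ hi)

end Rank

/-! ### Permutation matrices and traces -/

/-- The matrix of `h` in the permutation representation. -/
noncomputable def actMat (R : Type*) {H X : Type*} [Zero R] [One R] [SMul H X] (h : H) :
    Matrix X X R :=
  Matrix.of fun x y => if x = h • y then 1 else 0

section Act

variable {R H X : Type*} [CommRing R] [Group H] [MulAction H X] [Fintype X]

theorem actMat_mul_apply (h : H) (A : Matrix X X R) (x y : X) :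
    ((actMat R h : Matrix X X R) * A) x y = A (h⁻¹ • x) y := by
  rw [Matrix.mul_apply, Finset.sum_eq_single (h⁻¹ • x)]
  · simp [actMat]
  · intro b _ hb
    have : x ≠ h • b := fun he => hb (by rw [he, inv_smul_smul])
    simp [actMat, this]
  · simp

theorem mul_actMat_apply (h : H) (A : Matrix X X R) (x y : X) :
    (A * (actMat R h : Matrix X X R)) x y = A x (h • y) := by
  rw [Matrix.mul_apply, Finset.sum_eq_single (h • y)]
  · simp [actMat]
  · intro b _ hb
    simp [actMat, hb]
  · simp

theorem actMat_mul (g h : H) : (actMat R g * actMat R h : Matrix X X R) = actMat R (g * h) := by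
  ext x y
  rw [actMat_mul_apply]
  simp only [actMat, Matrix.of_apply, mul_smul, inv_smul_eq_iff]

theorem actMat_one [DecidableEq X] : (actMat R (1 : H) : Matrix X X R) = 1 := by
  ext x y
  simp [actMat, Matrix.one_apply]

theorem trace_actMat_mul (h : H) (A : Matrix X X R) :
    (actMat R h * A).trace = ∑ x, A x (h • x) := by
  rw [Matrix.trace, ← Equiv.sum_comp (MulAction.toPerm h)]
  refine Finset.sum_congr rfl fun x _ => ?_
  simp [Matrix.diag, actMat_mul_apply]

end Act

/-! ### The trace formula -/

variable {M : Ideal AlgInt} [M.IsMaximal] {p : ℕ} [Fact p.Prime] {X : Type*} [Fintype X]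
  [DecidableEq X]

/-- **The trace of a `p`-element times a commuting idempotent** is the rank of the fixed-point
block of the reduction. -/
theorem trace_eq_rank (hM : IsPModular p M) {H : Type*} [Group H] [MulAction H X] (s : H)
    {k : ℕ} (hs : s ^ p ^ k = 1) (E : Matrix X X (locRing M)) (hE : E * E = E)
    (hEs : ∀ x y, E (s • x) (s • y) = E x y) :
    ∑ x, E x (s • x) = ((mask {x | s • x = x} (E.map (red M))).rank : locRing M) := by
  set f := red M with hf
  have hmem : (p : AlgInt) ∈ M := hM.2.2
  haveI : CharP (ResField M) p := charP_resField hM.1 hmem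
  set σ : Equiv.Perm X := (MulAction.toPerm s : Equiv.Perm X)⁻¹ with hσ
  set Φ : Set X := {x | s • x = x} with hΦ
  have hσa : ∀ x, σ x = s⁻¹ • x := fun x => rfl
  have hEσ : ∀ x y, E (σ x) (σ y) = E x y := fun x y => by
    rw [hσa, hσa]
    conv_rhs => rw [← smul_inv_smul s x, ← smul_inv_smul s y, hEs]
  have hmemΦ : ∀ x, x ∈ Φ ↔ σ x = x := fun x => by
    rw [hΦ, Set.mem_setOf_eq, hσa, inv_smul_eq_iff, eq_comm]
  have hσΦ : ∀ x, σ x ∈ Φ ↔ x ∈ Φ := fun x => by rw [hmemΦ, hmemΦ]; exact σ.injective.eq_iff
  have hpow : σ ^ p ^ k = 1 := by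
    ext x
    have hx : ∀ n : ℕ, (σ ^ n) x = (s ^ n)⁻¹ • x := fun n => by
      induction n generalizing x with
      | zero => simp
      | succ n ih => rw [pow_succ', Equiv.Perm.mul_apply, ih, hσa, smul_smul, pow_succ, _root_.mul_inv_rev]
    rw [hx, hs, inv_one, one_smul]; rfl
  have hper : ∀ x, x ∉ Φ → ∀ j : ℕ, (σ ^ j) x = x → p ∣ j := by
    intro x hx j hj
    by_contra hpj
    obtain ⟨t, ht⟩ : ∃ t : ℕ, (σ ^ j) ^ t = σ := exists_pow_eq_self_of_coprime
      (Nat.Coprime.of_dvd_right (orderOf_dvd_of_pow_eq_one hpow)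
        (Nat.Coprime.pow_right _ ((hM.1.coprime_iff_not_dvd.2 hpj).symm)))
    exact hx ((hmemΦ x).2 (by rw [← ht]; exact (σ ^ j).pow_apply_eq_self_of_apply_eq_self hj t))
  -- the mask is the product on the group generated by `s`
  have hmul : mask Φ ((E * E).map f) = mask Φ (E.map f) * mask Φ (E.map f) := by
    have hz : IsPGroup p (Subgroup.zpowers s) := by
      intro g
      obtain ⟨i, hi⟩ := g.2
      exact ⟨k, Subtype.ext (by
        rw [SubmonoidClass.coe_pow, ← hi, ← zpow_natCast, ← _root_.zpow_mul, mul_comm,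
          _root_.zpow_mul, zpow_natCast, hs, one_zpow]; rfl)⟩
    have hfix : MulAction.fixedPoints (Subgroup.zpowers s) X = Φ := by
      ext x
      refine ⟨fun h => h ⟨s, Subgroup.mem_zpowers s⟩, fun h u => ?_⟩
      have : Subgroup.zpowers s ≤ MulAction.stabilizer H x := Subgroup.zpowers_le.2 h
      exact this u.2
    have heq : ∀ (u : Subgroup.zpowers s) (x y : X),
        (E.map f) (u • x) (u • y) = (E.map f) x y := by
      intro u x y
      obtain ⟨i, hi⟩ := u.2
      show f (E ((u : H) • x) ((u : H) • y)) = f (E x y)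
      congr 1
      let K : Subgroup H :=
        { carrier := {g | ∀ x y, E (g • x) (g • y) = E x y}
          one_mem' := fun x y => by rw [one_smul, one_smul]
          mul_mem' := fun {a b} ha hb x y => by rw [mul_smul, mul_smul, ha, hb]
          inv_mem' := fun {a} ha x y => by
            conv_rhs => rw [← smul_inv_smul a x, ← smul_inv_smul a y, ha] }
      exact (Subgroup.zpowers_le.2 (show s ∈ K from hEs)) u.2 x y
    rw [← hfix, Matrix.map_mul, mask_mul hz heq heq]
  rw [hE] at hmul
  set W := mask Φ (E.map f) with hW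
  obtain ⟨r, hr, A, L, hAL, hLA⟩ : ∃ r, W.rank = r ∧ ∃ (A : Matrix X (Fin r) (ResField M))
      (L : Matrix (Fin r) X (ResField M)), A * L = W ∧ L * A = 1 :=
    ⟨_, rfl, exists_factor hmul.symm⟩
  have hrow : ∀ x, x ∉ Φ → ∀ i, A x i = 0 := fun x hx i => by
    have h1 : A = W * A := by rw [← hAL, Matrix.mul_assoc, hLA, Matrix.mul_one]
    rw [h1, Matrix.mul_apply]
    exact Finset.sum_eq_zero fun y _ => by simp [hW, mask_apply, hx]
  have hcol : ∀ x, x ∉ Φ → ∀ i, L i x = 0 := fun x hx i => by
    have h1 : L = L * W := by rw [← hAL, ← Matrix.mul_assoc, hLA, Matrix.one_mul]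
    rw [h1, Matrix.mul_apply]
    exact Finset.sum_eq_zero fun y _ => by simp [hW, mask_apply, hx]
  have hsurj : ∀ c : ResField M, ∃ z : locRing M, f z = c := red_surjective
  choose lft hlft using hsurj
  set Ah : Matrix X (Fin r) (locRing M) :=
    Matrix.of fun x i => if x ∈ Φ then lft (A x i) else 0 with hAh
  set Lh : Matrix (Fin r) X (locRing M) :=
    Matrix.of fun i x => if x ∈ Φ then lft (L i x) else 0 with hLh
  have hAm : Ah.map f = A := by
    ext x i
    by_cases hx : x ∈ Φ
    · simp [hAh, hx, hlft]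
    · simp [hAh, hx, hrow x hx i]
  have hLm : Lh.map f = L := by
    ext i x
    by_cases hx : x ∈ Φ
    · simp [hLh, hx, hlft]
    · simp [hLh, hx, hcol x hx i]
  have hLEA : L * E.map f * A = 1 := by
    ext i j
    have h1 : (1 : Matrix (Fin r) (Fin r) (ResField M)) = L * W * A := by
      rw [← hAL, ← Matrix.mul_assoc, hLA, Matrix.one_mul, hLA]
    rw [h1, Matrix.mul_apply, Matrix.mul_apply]
    refine Finset.sum_congr rfl fun y _ => ?_
    by_cases hy : y ∈ Φ
    · congr 1
      rw [Matrix.mul_apply, Matrix.mul_apply]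
      refine Finset.sum_congr rfl fun x _ => ?_
      by_cases hx : x ∈ Φ
      · simp [hW, mask_apply, hx, hy]
      · simp [hcol x hx i]
    · simp [hrow y hy j]
  set Mx := Lh * E * Ah with hMx
  have hMm : Mx.map f = 1 := by rw [hMx, Matrix.map_mul, Matrix.map_mul, hAm, hLm, hLEA]
  have hMu : IsUnit Mx := isUnit_of_map_eq_one f (fun r h => isUnit_of_red_ne_zero h) Mx 1
    (by rw [mul_one, RingHom.mapMatrix_apply, hMm])
  obtain ⟨N, hN1, hN2⟩ : ∃ N, Mx * N = 1 ∧ N * Mx = 1 :=
    ⟨((hMu.unit⁻¹ : (Matrix (Fin r) (Fin r) (locRing M))ˣ) : Matrix _ _ _), hMu.mul_val_inv, hMu.val_inv_mul⟩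
  have hNm : N.map f = 1 := by
    have := congrArg (fun Z => Z.map f) hN2
    simp only [Matrix.map_mul, hMm, Matrix.mul_one] at this
    rw [this, Matrix.map_one f (map_zero f) (map_one f)]
  set E' := E * Ah * N * Lh * E with hE'
  have hE'2 : E' * E' = E' := by
    calc E' * E' = E * Ah * N * (Lh * (E * E) * Ah) * N * Lh * E := by
          simp only [hE', Matrix.mul_assoc]
      _ = E' := by rw [hE, ← hMx, Matrix.mul_assoc (E * Ah) N Mx, hN2, Matrix.mul_one]
  have hEE' : E * E' = E' := by simp only [hE', ← Matrix.mul_assoc, hE]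
  have hE'E : E' * E = E' := by simp only [hE', Matrix.mul_assoc, hE]
  have hD : (E - E') * (E - E') = E - E' := by
    rw [Matrix.sub_mul, Matrix.mul_sub, Matrix.mul_sub, hE, hEE', hE'E, hE'2, sub_self, sub_zero]
  set S := permMat (R := locRing M) σ with hS
  have hSE : S * E = E * S := by
    ext x y
    rw [hS, permMat_mul_apply, mul_permMat_apply]
    conv_lhs => rw [← σ.apply_symm_apply y, hEσ]
  have hSA : S * Ah = Ah := by
    ext x i
    rw [Matrix.mul_apply, Finset.sum_eq_single (σ x) (fun b _ hb => by simp [hS, permMat, hb])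
      (by simp)]
    by_cases hx : x ∈ Φ
    · simp [hS, permMat, (hmemΦ x).1 hx]
    · simp [hS, permMat, hAh, hx, (hσΦ x).not.2 hx]
  have hLS : Lh * S = Lh := by
    ext i y
    rw [Matrix.mul_apply, Finset.sum_eq_single (σ.symm y)
      (fun b _ hb => by
        have : y ≠ σ b := fun h => hb (by simp [h])
        simp [hS, permMat, this]) (by simp)]
    by_cases hy : y ∈ Φ
    · have : σ.symm y = y := by
        conv_lhs => rw [← (hmemΦ y).1 hy, σ.symm_apply_apply]
      simp [hS, permMat, this, (hmemΦ y).1 hy]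
    · have : σ.symm y ∉ Φ := fun h => hy (by simpa using (hσΦ _).2 h)
      simp [hS, permMat, hLh, hy, this]
  have hN' : S * E' = E' * S := by
    calc S * E' = E * (S * Ah) * N * Lh * E := by
          rw [hE']; simp only [← Matrix.mul_assoc]; rw [hSE]
      _ = E * Ah * N * (Lh * S) * E := by rw [hSA, hLS]
      _ = E * Ah * N * Lh * (S * E) := by simp only [Matrix.mul_assoc]
      _ = E' * S := by rw [hSE, hE']; simp only [Matrix.mul_assoc]
  have hDσ : ∀ x y, (E - E') (σ x) (σ y) = (E - E') x y := by
    intro x y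
    have h1 : (S * (E - E')) x (σ y) = ((E - E') * S) x (σ y) := by
      rw [Matrix.mul_sub, Matrix.sub_mul, hSE, hN']
    rw [hS, permMat_mul_apply, mul_permMat_apply, σ.symm_apply_apply] at h1
    exact h1
  have hDΦ : ∀ x ∈ Φ, ∀ y ∈ Φ, f ((E - E') x y) = 0 := by
    intro x hx y hy
    have h1 : E'.map f = E.map f * W * E.map f := by
      simp only [hE', Matrix.map_mul, hAm, hLm, hNm, Matrix.mul_one, Matrix.one_mul, ← hAL, Matrix.mul_assoc]
    have h2 : (E.map f * W * E.map f) x y = (W * W * W) x y := by
      simp only [Matrix.mul_apply, hW, mask_apply]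
      refine Finset.sum_congr rfl fun b _ => ?_
      by_cases hb : b ∈ Φ
      · simp only [hb, hy, and_true, if_true]
        refine congrArg (· * _) (Finset.sum_congr rfl fun a _ => ?_)
        by_cases ha : a ∈ Φ <;> simp [ha, hx]
      · simp [hb]
    rw [← hmul, ← hmul] at h2
    have h3 : (E'.map f) x y = W x y := by rw [h1]; exact h2
    simp only [hW, mask_apply, hx, hy, and_self, if_true, Matrix.map_apply] at h3
    rw [Matrix.sub_apply, map_sub, h3, sub_self]
  obtain ⟨η, hη, hη1, hηf⟩ := exists_root_red_one (M := M) hM.1 hmem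
  have key := sum_apply_perm_eq_zero f (fun r h => isUnit_of_red_ne_zero h) hM.1.pos hη hη1 hηf σ Φ
    hσΦ hper (E - E') hD hDσ hDΦ
  have htr : ∀ Z : Matrix X X (locRing M), (S * Z).trace = ∑ x, Z (σ x) x := fun Z => by
    simp [Matrix.trace, hS, permMat_mul_apply]
  have h4 : (S * E').trace = (r : locRing M) := by
    calc (S * E').trace = (E * Ah * (N * (Lh * (E * S)))).trace := by
          rw [hN', hE']; simp only [Matrix.mul_assoc]
      _ = (N * (Lh * (E * (S * (E * Ah))))).trace := by
          rw [Matrix.trace_mul_comm]; simp only [Matrix.mul_assoc]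
      _ = (N * Mx).trace := by
          rw [← Matrix.mul_assoc S E, hSE, Matrix.mul_assoc E S, hSA, ← Matrix.mul_assoc E E, hE,
            hMx, Matrix.mul_assoc Lh]
      _ = _ := by rw [hN2, Matrix.trace_one, Fintype.card_fin]
  calc ∑ x, E x (s • x) = ∑ x, E (σ x) x := by
        rw [← Equiv.sum_comp σ]
        exact Finset.sum_congr rfl fun x _ => by rw [hσa, smul_inv_smul]
    _ = (S * (E - E' + E')).trace := by rw [sub_add_cancel, htr]
    _ = _ := by rw [Matrix.mul_add, Matrix.trace_add, htr, key, zero_add, h4, hr]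

/-- The sum of the fixed-point ranks over a `p`-group is divisible by its order. -/
theorem card_dvd_sum_rank (hM : IsPModular p M) {N : Type*} [Group N] [Fintype N] [MulAction N X]
    (hN : IsPGroup p N) (P : Matrix X X (ResField M)) (hP : P * P = P)
    (heq : ∀ (n : N) x y, P (n • x) (n • y) = P x y) :
    Nat.card N ∣ ∑ n : N, (mask {x | n • x = x} P).rank := by
  have hsurj : ∀ c : ResField M, ∃ z : locRing M, red M z = c := red_surjective
  choose lft hlft using hsurj
  set A : Matrix X X (locRing M) := P.map lft with hA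
  have hAP : A.map (red M) = P := by ext x y; simp [hA, hlft]
  obtain ⟨q, hidem, hred⟩ := exists_idem_lift A (by rw [hAP, hP])
  set E := Polynomial.aeval A q with hE
  rw [hAP] at hred
  have hcomm : ∀ n : N, actMat (locRing M) n * E = E * actMat (locRing M) n := by
    intro n
    have h1 : Commute (actMat (locRing M) n) A := by
      refine Matrix.ext fun x y => ?_
      rw [actMat_mul_apply, mul_actMat_apply]
      show lft (P _ _) = lft (P _ _)
      rw [← heq n (n⁻¹ • x) y, smul_inv_smul]
    have h2 : A ∈ Subalgebra.centralizer (locRing M)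
        ({actMat (locRing M) n} : Set (Matrix X X (locRing M))) := by
      rw [Subalgebra.mem_centralizer_iff]
      rintro g rfl
      exact h1
    have h3 := Algebra.adjoin_le (Set.singleton_subset_iff.2 h2)
      (Polynomial.aeval_mem_adjoin_singleton (R := locRing M) (p := q) A)
    exact Subalgebra.mem_centralizer_iff _ |>.1 h3 _ rfl
  have hEn : ∀ (n : N) x y, E (n • x) (n • y) = E x y := by
    intro n x y
    have := congrFun (congrFun (hcomm n) (n • x)) y
    rw [actMat_mul_apply, mul_actMat_apply, inv_smul_smul] at this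
    exact this.symm
  have htr : ∀ n : N, (actMat (locRing M) n * E).trace =
      ((mask {x | n • x = x} P).rank : locRing M) := by
    intro n
    obtain ⟨k, hk⟩ := hN n
    rw [trace_actMat_mul, trace_eq_rank hM n hk E hidem (hEn n), hred]
  set T : Matrix X X (locRing M) := ∑ n : N, actMat (locRing M) n * E with hT
  have hTT : T * T = Nat.card N • T := by
    rw [hT, Finset.mul_sum]
    have : ∀ m : N, (∑ n : N, actMat (locRing M) n * E) * (actMat (locRing M) m * E) = T := by
      intro m
      rw [Finset.sum_mul, hT]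
      refine Fintype.sum_equiv (Equiv.mulRight m) _ _ fun n => ?_
      rw [Equiv.coe_mulRight, Matrix.mul_assoc, ← Matrix.mul_assoc E, ← hcomm m, Matrix.mul_assoc,
        hidem, ← Matrix.mul_assoc, actMat_mul]
    rw [Finset.sum_congr rfl fun m _ => this m, Finset.sum_const, Finset.card_univ,
      Nat.card_eq_fintype_card]
  have hcard : (Nat.card N : ℂ) ≠ 0 := Nat.cast_ne_zero.2 Nat.card_pos.ne'
  set Tc : Matrix X X ℂ := (Nat.card N : ℂ)⁻¹ • T.map (locRing M).subtype with hTc
  have hTcc : Tc * Tc = Tc := by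
    rw [hTc, Matrix.smul_mul, Matrix.mul_smul, smul_smul, ← Matrix.map_mul, hTT]
    ext x y
    simp only [Matrix.smul_apply, Matrix.map_apply, map_nsmul, smul_eq_mul]
    rw [nsmul_eq_mul]
    field_simp
  refine ⟨Tc.rank, ?_⟩
  have h := trace_idem hTcc
  rw [hTc, Matrix.trace_smul, ← AddMonoidHom.map_trace (locRing M).subtype, hT,
    Matrix.trace_sum, Finset.sum_congr rfl fun n _ => htr n, ← hTc] at h
  simp only [map_sum, map_natCast, smul_eq_mul] at h
  rw [inv_mul_eq_iff_eq_mul₀ hcard] at h
  exact_mod_cast h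

end CfsgLib.StarAction
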