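import Cfsg.Agent.Lib.StarAction.Star
import Cfsg.Agent.Lib.Blocks.Pairs.Defect
import Cfsg.Agent.Lib.Blocks.HeightZero
import Cfsg.Agent.Lib.BlockRank.Major
import Cfsg.Agent.Lib.BlockRank.RankOneMajor
import Cfsg.Agent.Lib.Blk83.InertialPair

/-!
# Nonvanishing of subsection values and the stabilizer of a twist

A character of height zero does not vanish on any subsection below the maximal pair; no character
vanishes on the subsections of the central elements of the defect group.
-/

set_option autoImplicit false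
set_option maxHeartbeats 800000

namespace CfsgLib.StarAction

open Cfsg CfsgLib.Blocks CfsgLib.Blocks.Pairs CfsgLib.BlockRank
open scoped Classical ComplexConjugate

universe u

variable {G : Type u} [Group G] [Fintype G] {p : ℕ} {M : Ideal AlgInt} [M.IsMaximal]

/-- The reduction of a character value. -/
noncomputable def chiR (χ : IrrCharacter G) (g : G) : ResField M :=
  red M ⟨(χ : G → ℂ) g, char_mem_locRing χ g⟩

/-- A character as a functional on the modular group algebra. -/
noncomputable def tauChar (χ : IrrCharacter G) (a : MonoidAlgebra (ResField M) G) : ResField M :=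
  ∑ g : G, a.coeff g * chiR χ g

theorem chiR_conj (χ : IrrCharacter G) (x g : G) :
    chiR (M := M) χ (x * g * x⁻¹) = chiR χ g := by
  unfold chiR
  congr 1
  exact Subtype.ext (CfsgLib.Char.IsIrrCharacter.isClassFunction χ.2 g x)

theorem chiR_mul_comm (χ : IrrCharacter G) (x y : G) :
    chiR (M := M) χ (x * y) = chiR χ (y * x) := by
  rw [← chiR_conj χ x (y * x)]
  congr 1
  group

theorem tauChar_mul (χ : IrrCharacter G) (a b : MonoidAlgebra (ResField M) G) :
    tauChar χ (a * b) = ∑ x : G, a.coeff x * ∑ d : G, b.coeff d * chiR χ (x * d) := by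
  simp only [tauChar, coeff_mul_group a b, Finset.sum_mul, Finset.mul_sum]
  rw [Finset.sum_comm]
  refine Finset.sum_congr rfl fun x _ => ?_
  refine Fintype.sum_equiv (Equiv.mulLeft x⁻¹) _ _ fun g => ?_
  rw [Equiv.coe_mulLeft, mul_inv_cancel_left, mul_assoc]

theorem tauChar_conjA (χ : IrrCharacter G) (x : G) (a : MonoidAlgebra (ResField M) G) :
    tauChar χ (conjA x a) = tauChar χ a := by
  refine Fintype.sum_equiv (MulAut.conj x⁻¹).toEquiv _ _ fun g => ?_
  simp only [coeff_conjA, MulEquiv.toEquiv_eq_coe, EquivLike.coe_coe, MulAut.conj_apply, inv_inv]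
  rw [← chiR_conj χ x⁻¹ g, inv_inv]

variable [Fact p.Prime] [CharP (ResField M) p]

/-- The functional only sees the Brauer image. -/
theorem tauChar_trunc (χ : IrrCharacter G) {R : Subgroup G} (hR : IsPGroup p R)
    {a : MonoidAlgebra (ResField M) G} (ha : ConjFixed R a) :
    tauChar χ (trunc R a) = tauChar χ a := by
  have key : ∀ b : MonoidAlgebra (ResField M) G,
      tauChar χ b = aug (ofFun fun g => b.coeff g * chiR χ g) := fun b => by
    rw [aug_eq]; simp [tauChar]
  rw [key, key, ← aug_trunc hR (a := ofFun fun g => a.coeff g * chiR χ g) fun u hu g => by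
    rw [coeff_ofFun, coeff_ofFun, ha u hu g, chiR_conj]]
  congr 1
  ext g
  simp [ite_mul]

omit [Fact p.Prime] [CharP (ResField M) p] in
/-- The functional of a character of the block absorbs the block idempotent. -/
theorem tauChar_mul_ebar {B : Set (IrrCharacter G)} (hB : IsPBlock M B) {χ : IrrCharacter G}
    (hχ : χ ∈ B) (a : MonoidAlgebra (ResField M) G) :
    tauChar χ (a * ebar hB) = tauChar χ a := by
  rw [tauChar_mul]
  refine Finset.sum_congr rfl fun x _ => ?_
  congr 1
  have h1 : ∑ d : G, blockCoeff B d * (χ : G → ℂ) (d * x) = (χ : G → ℂ) x := by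
    rw [Cfsg.Agent.S0923.sum_blockCoeff_mul_irr B χ x, if_pos hχ]
  have h2 : ∀ d : G, (ebar hB).coeff d * chiR χ (x * d) =
      red M (⟨blockCoeff B d, blockCoeff_mem hB d⟩ * ⟨(χ : G → ℂ) (d * x), char_mem_locRing χ _⟩) := by
    intro d
    rw [map_mul, coeff_ebar, chiR_mul_comm]
    rfl
  rw [Finset.sum_congr rfl fun d _ => h2 d, ← map_sum]
  show red M _ = red M _
  congr 1
  apply Subtype.ext
  rw [AddSubmonoidClass.coe_finsetSum]
  simpa using h1

/-- A central factor of `p`-power order disappears modulo `M`. -/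
theorem chiR_mul_pElement (hM : IsPModular p M) (χ : IrrCharacter G) {u m : G}
    (hu : ∃ k : ℕ, orderOf u = p ^ k) (hc : Commute u m) :
    chiR (M := M) χ (u * m) = chiR χ m := by
  obtain ⟨m1, m2, hm, hc12, ⟨j, hj⟩, hm2⟩ := exists_isPPart hM.1 m
  obtain ⟨k, hk⟩ := hu
  have hpp : IsPPart p m m1 := ⟨m2, hm, hc12, ⟨j, hj⟩, hm2⟩
  have hcm1 : Commute u m1 := by
    obtain ⟨n, hn⟩ := Subgroup.mem_zpowers_iff.1 (IsPPart.mem_zpowers hM.1 hpp)
    rw [← hn]; exact hc.zpow_right n
  have hcm2 : Commute u m2 := by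
    have : m2 = m1⁻¹ * m := by rw [← hm, inv_mul_cancel_left]
    rw [this]; exact (Commute.inv_right hcm1).mul_right hc
  have hord : (u * m1) ^ p ^ (k + j) = 1 := by
    have h1 : u ^ p ^ (k + j) = 1 := by
      rw [pow_add, pow_mul, ← hk, pow_orderOf_eq_one, one_pow]
    have h2 : m1 ^ p ^ (k + j) = 1 := by
      rw [pow_add, mul_comm, pow_mul, ← hj, pow_orderOf_eq_one, one_pow]
    rw [hcm1.mul_pow, h1, h2, one_mul]
  obtain ⟨i, -, hi⟩ := (Nat.dvd_prime_pow hM.1).1 (orderOf_dvd_of_pow_eq_one hord)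
  unfold chiR
  rw [show (⟨(χ : G → ℂ) (u * m), char_mem_locRing χ _⟩ : locRing M) =
      ⟨(χ : G → ℂ) ((u * m1) * m2), char_mem_locRing χ _⟩ from
        Subtype.ext (by rw [← hm, mul_assoc]),
    show (⟨(χ : G → ℂ) m, char_mem_locRing χ _⟩ : locRing M) =
      ⟨(χ : G → ℂ) (m1 * m2), char_mem_locRing χ _⟩ from Subtype.ext (by rw [hm]),
    red_char_mul_eq hM.1 hM.2.2 χ (hcm2.mul_left hc12) hi hm2,
    red_char_mul_eq hM.1 hM.2.2 χ hc12 hj hm2]

omit [CharP (ResField M) p] in
/-- A block part of a translated character is determined modulo `M` by its regular values. -/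
theorem red_blockPart_eq_zero (hM : IsPModular p M) {u : G}
    {b : Set (IrrCharacter (Subgroup.centralizer ({u} : Set G)))} (χ : IrrCharacter G)
    (h0 : ∀ c : Subgroup.centralizer ({u} : Set G), IsPRegular p c →
      blockPart b (translate u (χ : G → ℂ)) c = 0)
    (c : Subgroup.centralizer ({u} : Set G))
    (hc : blockPart b (translate u (χ : G → ℂ)) c ∈ locRing M) :
    red M ⟨_, hc⟩ = 0 := by
  haveI := Fintype.ofFinite b
  let ζ := Complex.exp (2 * Real.pi * Complex.I / orderOf u)
  have hζ : IsPrimitiveRoot ζ (orderOf u) :=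
    Complex.isPrimitiveRoot_exp _ (orderOf_pos u).ne'
  obtain ⟨m, i, -, hmi⟩ := exists_blockPart_translate (G := G) rfl hζ χ
  have hζR : ζ ∈ locRing M := isIntegral_mem_locRing (hζ.isIntegral (orderOf_pos u))
  let a : IrrCharacter (Subgroup.centralizer ({u} : Set G)) → locRing M := fun φ =>
    (m φ : locRing M) * (⟨ζ, hζR⟩ : locRing M) ^ i φ
  have hval : ∀ x : Subgroup.centralizer ({u} : Set G),
      blockPart b (translate u (χ : G → ℂ)) x =
        ((∑ φ ∈ b.toFinset, a φ * ⟨(φ : _ → ℂ) x, char_mem_locRing φ x⟩ : locRing M) : ℂ) := by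
    intro x
    rw [AddSubmonoidClass.coe_finsetSum]
    refine (hmi b x).trans (Finset.sum_congr rfl fun φ _ => ?_)
    simp [a]
  obtain ⟨x1, x2, hx, hc12, ⟨j, hj⟩, hx2⟩ := exists_isPPart hM.1 c
  have h2 := h0 x2 hx2
  rw [hval] at h2
  have h2' : (∑ φ ∈ b.toFinset, a φ * ⟨(φ : _ → ℂ) x2, char_mem_locRing φ x2⟩ : locRing M) = 0 :=
    Subtype.ext h2
  rw [show (⟨_, hc⟩ : locRing M) =
    ∑ φ ∈ b.toFinset, a φ * ⟨(φ : _ → ℂ) c, char_mem_locRing φ c⟩ from Subtype.ext (hval c),
    map_sum, ← map_zero (red M), ← h2', map_sum]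
  refine Finset.sum_congr rfl fun φ _ => ?_
  rw [map_mul, map_mul (red M) (a φ), ← red_char_mul_eq hM.1 hM.2.2 φ hc12 hj hx2]
  congr 2
  exact Subtype.ext (by rw [hx])

variable {P : Subgroup G} {e : MonoidAlgebra (ResField M) G} {lam : P →* ℂˣ}

/-- A nonzero block value pins the weight of a block stabilized by the twist. -/
theorem blkWt_eq_one_of_fixed (hM : IsPModular p M) (χ : IrrCharacter G)
    (hfix : starChar p P e lam (χ : G → ℂ) = (χ : G → ℂ)) {u : G}
    (hu : ∃ k : ℕ, orderOf u = p ^ k)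
    (b : {b : Set (IrrCharacter (Subgroup.centralizer ({u} : Set G))) // IsPBlock M b})
    (hne : ∃ c : Subgroup.centralizer ({u} : Set G), IsPRegular p c ∧
      blockPart b.1 (translate u (χ : G → ℂ)) c ≠ 0) :
    blkWt p P e lam u b = 1 := by
  obtain ⟨c, hc, hne⟩ := hne
  have h : blockPart b.1 (phiW p P e lam u (translate u (χ : G → ℂ))) c =
      blockPart b.1 (translate u (χ : G → ℂ)) c :=
    blockPart_congr_regular hM b.2 (fun d hd => by
      rw [← starChar_apply hu d hd, hfix]; rfl) hc
  rw [blockPart_phiW hM u _ b] at h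
  exact mul_right_cancel₀ hne (h.trans (one_mul _).symm)

/-! ### A coherent element below a maximal pair -/

/-- The block below `(P, e)` on a subgroup. -/
noncomputable def subIdem (p : ℕ) [Fact p.Prime] [CharP (ResField M) p] (P : Subgroup G)
    (e : MonoidAlgebra (ResField M) G) (hP : IsPair p P e) (T : Subgroup G) :
    MonoidAlgebra (ResField M) G :=
  if h : T ≤ P then Classical.choose (existsUnique_sle hP h).1 else 0

theorem subIdem_spec (hP : IsPair p P e) {T : Subgroup G} (hT : T ≤ P) :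
    SLE p T (subIdem p P e hP T) P e := by
  rw [subIdem, dif_pos hT]
  exact Classical.choose_spec (existsUnique_sle hP hT).1

/-- The extension of an element of the centralizer of `P` to the smaller subgroups. -/
noncomputable def liftElt [Finite G] (P : Subgroup G) (sub : Subgroup G → MonoidAlgebra (ResField M) G)
    (z0 : MonoidAlgebra (ResField M) G) (T : Subgroup G) : MonoidAlgebra (ResField M) G :=
  if T = P then z0
  else (ofFun fun y => if _h : T < P ⊓ Subgroup.centralizer ({y} : Set G) then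
      (liftElt P sub z0 (P ⊓ Subgroup.centralizer ({y} : Set G))).coeff y else 0) * sub T
termination_by Nat.card G - Nat.card T
decreasing_by
  have h1 := card_lt_of_lt _h
  have h2 := Subgroup.card_le_card_group (P ⊓ Subgroup.centralizer ({y} : Set G))
  omega

omit [Fintype G] [M.IsMaximal] [Fact p.Prime] [CharP (ResField M) p] in
theorem le_centralizer_singleton {T : Subgroup G} {y : G} :
    T ≤ Subgroup.centralizer ({y} : Set G) ↔ y ∈ Subgroup.centralizer (T : Set G) := by
  constructor
  · intro h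
    rw [Subgroup.mem_centralizer_iff]
    exact fun t ht => Subgroup.mem_centralizer_singleton_iff.1 (h ht)
  · intro h t ht
    exact Subgroup.mem_centralizer_singleton_iff.2 (Subgroup.mem_centralizer_iff.1 h t ht)

omit [Fintype G] [M.IsMaximal] [Fact p.Prime] [CharP (ResField M) p] in
theorem conjSub_stab {t : G} (ht : t ∈ P) (y : G) :
    conjSub t (P ⊓ Subgroup.centralizer ({t⁻¹ * y * t} : Set G)) =
      P ⊓ Subgroup.centralizer ({y} : Set G) := by
  ext x
  rw [mem_conjSub, Subgroup.mem_inf, Subgroup.mem_inf, Subgroup.mem_centralizer_singleton_iff,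
    Subgroup.mem_centralizer_singleton_iff]
  refine and_congr ⟨fun h => ?_, fun h => ?_⟩ ⟨fun h => ?_, fun h => ?_⟩
  · have := P.mul_mem (P.mul_mem ht h) (P.inv_mem ht)
    simpa [mul_assoc] using this
  · exact P.mul_mem (P.mul_mem (P.inv_mem ht) h) ht
  · calc x * y = t * (t⁻¹ * x * t * (t⁻¹ * y * t)) * t⁻¹ := by group
      _ = t * (t⁻¹ * y * t * (t⁻¹ * x * t)) * t⁻¹ := by rw [h]
      _ = y * x := by group
  · calc t⁻¹ * x * t * (t⁻¹ * y * t) = t⁻¹ * (x * y) * t := by group
      _ = t⁻¹ * (y * x) * t := by rw [h]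
      _ = t⁻¹ * y * t * (t⁻¹ * x * t) := by group

theorem liftElt_props (hP : IsPair p P e) {z0 : MonoidAlgebra (ResField M) G}
    (hz0 : SuppIn (Subgroup.centralizer (P : Set G)) z0) (hz0e : z0 * e = z0) (T : Subgroup G)
    (hT : T ≤ P) :
    (∀ t ∈ P, conjA t (liftElt P (subIdem p P e hP) z0 T) =
        liftElt P (subIdem p P e hP) z0 (conjSub t T)) ∧
      SuppIn (Subgroup.centralizer (T : Set G)) (liftElt P (subIdem p P e hP) z0 T) ∧
      liftElt P (subIdem p P e hP) z0 T * subIdem p P e hP T =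
        liftElt P (subIdem p P e hP) z0 T ∧
      ∀ W, T ≤ W → W ≤ P →
        trunc W (liftElt P (subIdem p P e hP) z0 T) = liftElt P (subIdem p P e hP) z0 W := by
  generalize hn : Nat.card P - Nat.card T = n
  induction n using Nat.strong_induction_on generalizing T with
  | _ n ih =>
  set F := liftElt P (subIdem p P e hP) z0 with hFdef
  have hIH : ∀ W, T < W → W ≤ P → (∀ t ∈ P, conjA t (F W) = F (conjSub t W)) ∧
      SuppIn (Subgroup.centralizer (W : Set G)) (F W) ∧ F W * subIdem p P e hP W = F W ∧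
      ∀ W', W ≤ W' → W' ≤ P → trunc W' (F W) = F W' := fun W hTW hWP => by
    have h1 := card_lt_of_lt hTW
    have h2 := Subgroup.card_le_of_le hWP
    exact ih _ (by omega) W hWP rfl
  rcases eq_or_lt_of_le hT with rfl | hlt
  · have hF : F T = z0 := by rw [hFdef, liftElt, if_pos rfl]
    refine ⟨fun t ht => ?_, hF.symm ▸ hz0, ?_, fun W hTW hWT => ?_⟩
    · rw [conjSub_eq_of_mem_normalizer (Subgroup.le_normalizer ht), hF]
      exact conjFixed_iff.1 (suppIn_centralizer_conjFixed hz0) t ht
    · rw [hF, SLE.unique hP (subIdem_spec hP le_rfl) (SLE.refl T e), hz0e]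
    · obtain rfl := le_antisymm hWT hTW
      rw [hF]; exact trunc_eq_self hz0
  set H : MonoidAlgebra (ResField M) G := ofFun fun y =>
    if _h : T < P ⊓ Subgroup.centralizer ({y} : Set G) then
      (F (P ⊓ Subgroup.centralizer ({y} : Set G))).coeff y else 0 with hH
  have hF : F T = H * subIdem p P e hP T := by rw [hFdef, liftElt, if_neg hlt.ne]
  have hpairT := (subIdem_spec hP hT).pair_left hP
  have hHsupp : SuppIn (Subgroup.centralizer (T : Set G)) H := fun y hy => by
    rw [hH, coeff_ofFun, dif_neg]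
    intro h
    exact hy (le_centralizer_singleton.1 (h.le.trans inf_le_right))
  have hconjH : ∀ t ∈ P, ∀ y, H.coeff (t⁻¹ * y * t) =
      (if _h : conjSub t T < P ⊓ Subgroup.centralizer ({y} : Set G) then
        (F (P ⊓ Subgroup.centralizer ({y} : Set G))).coeff y else 0) := by
    intro t ht y
    rw [hH, coeff_ofFun]
    have hiff : (T < P ⊓ Subgroup.centralizer ({t⁻¹ * y * t} : Set G)) ↔
        conjSub t T < P ⊓ Subgroup.centralizer ({y} : Set G) := by
      rw [← conjSub_stab ht y]
      exact (Subgroup.map_lt_map_iff_of_injective (MulAut.conj t).injective).symm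
    by_cases h : T < P ⊓ Subgroup.centralizer ({t⁻¹ * y * t} : Set G)
    · rw [dif_pos h, dif_pos (hiff.1 h)]
      have h1 := (hIH _ h inf_le_left).1 t ht
      rw [conjSub_stab ht y] at h1
      rw [← h1, coeff_conjA]
    · rw [dif_neg h, dif_neg fun h' => h (hiff.2 h')]
  have heq : ∀ t ∈ P, conjA t (F T) = F (conjSub t T) := by
    intro t ht
    have hne : conjSub t T ≠ P := fun h => hlt.ne
      (Subgroup.eq_of_le_of_card_ge hT (by rw [← card_map_conj t T, show T.map _ = P from h]))
    have hsub : conjA t (subIdem p P e hP T) = subIdem p P e hP (conjSub t T) := by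
      have h1 := sle_conj_of_mem hP (subIdem_spec hP hT) ht
      exact SLE.unique hP h1 (subIdem_spec hP h1.le)
    rw [hF, conjA_mul, hsub, show F (conjSub t T) = _ from by rw [hFdef, liftElt, if_neg hne]]
    congr 1
    ext y
    have h1 := hconjH t ht y
    rw [hH, coeff_ofFun] at h1
    rw [coeff_conjA, coeff_ofFun, coeff_ofFun]
    exact h1
  refine ⟨heq, ?_, ?_, ?_⟩
  · rw [hF]; exact hHsupp.mul hpairT.block.mem.supp
  · rw [hF, mul_assoc, hpairT.block.idem]
  intro W hTW hWP
  rcases eq_or_lt_of_le hTW with rfl | hTWlt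
  · exact trunc_eq_self (by rw [hF]; exact hHsupp.mul hpairT.block.mem.supp)
  -- first the case of a normalizing group
  have key : ∀ V, T < V → V ≤ P → V ≤ Subgroup.normalizer (T : Set G) → trunc V (F T) = F V := by
    intro V hTV hVP hVN
    have hVp : IsPGroup p V := hP.pgroup.to_le hVP
    have hHfix : ConjFixed V H := by
      rw [conjFixed_iff]
      intro v hv
      ext y
      rw [coeff_conjA, hconjH v (hVP hv) y, conjSub_eq_of_mem_normalizer (hVN hv), hH, coeff_ofFun]
    obtain ⟨hV1, hV2, hV3, hV4⟩ := hIH V hTV hVP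
    have hHV : trunc V H = F V := by
      ext y
      rw [coeff_trunc]
      by_cases hy : y ∈ Subgroup.centralizer (V : Set G)
      · have hVs : V ≤ P ⊓ Subgroup.centralizer ({y} : Set G) :=
          le_inf hVP (le_centralizer_singleton.2 hy)
        rw [if_pos hy, hH, coeff_ofFun, dif_pos (lt_of_lt_of_le hTV hVs),
          ← hV4 _ hVs inf_le_left, coeff_trunc, if_pos]
        exact le_centralizer_singleton.1 inf_le_right
      · rw [if_neg hy, hV2 y hy]
    obtain ⟨f, hf⟩ := exists_ns ((subIdem_spec hP hVP).pair_left hP) hTV.le hVN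
    obtain rfl := SLE.unique hP (subIdem_spec hP hT) (hf.sle.trans (subIdem_spec hP hVP))
    rw [hF, trunc_mul hVp hHfix hf.fix, hHV]
    have hc := (trunc_idem hVp hTV.le hpairT.block.mem hf.fix hpairT.block.idem).1
    conv_lhs => rw [← hV3, mul_assoc, ← hc.mul_comm hf.pairP.block.mem, hf.br]
    exact hV3
  have hlt' := lt_inf_normalizer (hP.pgroup.to_le hWP) hTWlt
  have hle' : W ⊓ Subgroup.normalizer (T : Set G) ≤ P := inf_le_left.trans hWP
  rw [← trunc_trunc (inf_le_left : W ⊓ Subgroup.normalizer (T : Set G) ≤ W),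
    key _ hlt' hle' inf_le_right]
  exact (hIH _ hlt' hle').2.2.2 W inf_le_left hWP

/-- The functional takes the same value on all the extensions. -/
theorem tauChar_liftElt (hP : IsPair p P e) {z0 : MonoidAlgebra (ResField M) G}
    (hz0 : SuppIn (Subgroup.centralizer (P : Set G)) z0) (hz0e : z0 * e = z0) (χ : IrrCharacter G)
    (T : Subgroup G) (hT : T ≤ P) :
    tauChar χ (liftElt P (subIdem p P e hP) z0 T) = tauChar χ z0 := by
  generalize hn : Nat.card P - Nat.card T = n
  induction n using Nat.strong_induction_on generalizing T with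
  | _ n ih =>
  rcases eq_or_lt_of_le hT with rfl | hlt
  · rw [liftElt, if_pos rfl]
  set N := P ⊓ Subgroup.normalizer (T : Set G) with hN
  have hTN : T < N := lt_inf_normalizer hP.pgroup hlt
  obtain ⟨h1, -, -, h4⟩ := liftElt_props hP hz0 hz0e T hT
  have hfix : ConjFixed N (liftElt P (subIdem p P e hP) z0 T) := by
    rw [conjFixed_iff]
    intro t ht
    rw [h1 t ht.1, conjSub_eq_of_mem_normalizer ht.2]
  rw [← tauChar_trunc χ (hP.pgroup.to_le inf_le_left : IsPGroup p N) hfix, h4 N hTN.le inf_le_left]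
  have hc1 := card_lt_of_lt hTN
  have hc2 : Nat.card N ≤ Nat.card P := Subgroup.card_le_of_le inf_le_left
  have hlt : Nat.card P - Nat.card N < n := by omega
  exact ih _ hlt N inf_le_left rfl

/-- An element at the maximal pair seen by a character of height zero. -/
theorem exists_seen_element (hM : IsPModular p M) {B : Set (IrrCharacter G)} (hB : IsPBlock M B)
    (hP : PairOf p (ebar hB) P e) (hno : NoExt p P e) {χ : IrrCharacter G} (hχ : χ ∈ B)
    (h0 : blockHeight p B (χ : G → ℂ) = 0) :
    ∃ z0 : MonoidAlgebra (ResField M) G, SuppIn (Subgroup.centralizer (P : Set G)) z0 ∧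
      z0 * e = z0 ∧ tauChar χ z0 ≠ 0 := by
  have hD := (isDefectGroup_iff_maxR hM hB).2 (maxR_of_noExt hP hno)
  obtain ⟨g0, hg0, S, hS⟩ := hD
  have hg0C : g0 ∈ Subgroup.centralizer (P : Set G) := by
    rw [Subgroup.mem_centralizer_iff]
    intro t ht
    have ht' : t ∈ P := ht
    rw [hS] at ht'
    obtain ⟨t', -, rfl⟩ := ht'
    exact Subgroup.mem_centralizer_singleton_iff.1 t'.2
  set C := Subgroup.centralizer (P : Set G) with hC
  let sgl : G → MonoidAlgebra (ResField M) G := fun g => MonoidAlgebra.single g 1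
  have hsgl : ∀ g ∈ C, SuppIn C (sgl g) := fun g hg y hy => by
    have : y ≠ g := fun h => hy (h ▸ hg)
    simp [sgl, Finsupp.single_eq_of_ne this]
  have h1 : tauChar χ (sgl g0) ≠ 0 := by
    rw [tauChar, Finset.sum_eq_single g0 (fun g _ hg => by simp [sgl, Finsupp.single_eq_of_ne hg])
      (by simp)]
    simp only [sgl, MonoidAlgebra.coeff_single, Finsupp.single_eq_same, one_mul, chiR]
    rw [ne_eq, red_mk_eq_zero]
    exact not_memLocalIdeal_char_defectClass hM hB hχ h0 hg0
  obtain ⟨e', he', hne⟩ : ∃ e', IsBlockIdem C e' ∧ tauChar χ (sgl g0 * e') ≠ 0 := by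
    by_contra hc
    push Not at hc
    apply h1
    rw [← mul_one (sgl g0), ← sum_blks (F := ResField M) C, Finset.mul_sum]
    have hlin : ∀ (s : Finset (MonoidAlgebra (ResField M) G))
        (f : MonoidAlgebra (ResField M) G → MonoidAlgebra (ResField M) G),
        tauChar χ (∑ i ∈ s, f i) = ∑ i ∈ s, tauChar χ (f i) := fun s f => by
      simp only [tauChar, MonoidAlgebra.coeff_sum, Finsupp.finsetSum_apply, Finset.sum_mul]
      exact Finset.sum_comm
    rw [hlin]
    exact Finset.sum_eq_zero fun f hf => hc f (mem_blks.1 hf)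
  have hxs : SuppIn C (sgl g0 * e') := (hsgl g0 hg0C).mul he'.mem.supp
  have hBfix : ConjFixed P (ebar hB) := (isBlockIdem_ebar hB).mem.fixed.mono le_top
  have hxfix : ConjFixed P (sgl g0 * e') := suppIn_centralizer_conjFixed hxs
  have hpair' : PairOf p (ebar hB) P e' := by
    obtain ⟨hc1, hc2⟩ := trunc_block_idem (isBlockIdem_ebar hB) hP.pair.pgroup
    refine ⟨isBlockIdem_ebar hB, ⟨hP.pair.pgroup, he'⟩,
      (he'.prim _ hc1 hc2).resolve_right fun hz => hne ?_⟩
    rw [← tauChar_mul_ebar hB hχ, ← tauChar_trunc χ hP.pair.pgroup (conjFixed_mul hxfix hBfix),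
      trunc_mul hP.pair.pgroup hxfix hBfix, trunc_eq_self hxs, mul_assoc,
      ← hc1.mul_comm he'.mem, hz, mul_zero]
    simp [tauChar]
  obtain ⟨n, hn, hne'⟩ := exists_conj_of_noExt hP hno hpair'
  refine ⟨sgl (n⁻¹ * g0 * n) * e, ?_, by rw [mul_assoc, hP.pair.block.idem], ?_⟩
  · exact (hsgl _ ((conj_mem_centralizer_iff (Subgroup.inv_mem _ hn) g0).2 hg0C |>
      fun h => by simpa using h)).mul hP.pair.block.mem.supp
  · have hsg : conjA n⁻¹ (sgl g0) = sgl (n⁻¹ * g0 * n) := by
      ext y
      simp only [sgl, coeff_conjA, MonoidAlgebra.coeff_single, Finsupp.single_apply, inv_inv]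
      refine if_congr ⟨fun h => by rw [h]; group, fun h => by rw [← h]; group⟩ rfl rfl
    rw [← hsg, show e = conjA n⁻¹ e' by rw [← hne', conjA_inv_conjA], ← conjA_mul, tauChar_conjA]
    exact hne

/-- **Height zero**: no vanishing on the subsections below the maximal pair. -/
theorem exists_blockPart_ne_zero_of_height_zero (hM : IsPModular p M) {B : Set (IrrCharacter G)}
    (hB : IsPBlock M B) (hP : PairOf p (ebar hB) P e) (hno : NoExt p P e) {χ : IrrCharacter G}
    (hχ : χ ∈ B) (h0 : blockHeight p B (χ : G → ℂ) = 0) {u : G} (hu : u ∈ P)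
    (b : {b : Set (IrrCharacter (Subgroup.centralizer ({u} : Set G))) // IsPBlock M b})
    (hb : SLE p (Subgroup.zpowers u) (eIn b.2) P e) :
    ∃ c : Subgroup.centralizer ({u} : Set G), IsPRegular p c ∧
      blockPart b.1 (translate u (χ : G → ℂ)) c ≠ 0 := by
  obtain ⟨k, hk⟩ := IsPGroup.iff_orderOf.1 hP.pair.pgroup ⟨u, hu⟩
  rw [Subgroup.orderOf_mk] at hk
  obtain ⟨z0, hz0, hz0e, hτ⟩ := exists_seen_element hM hB hP hno hχ h0
  set T := Subgroup.zpowers u with hTdef
  have hTP : T ≤ P := Subgroup.zpowers_le.2 hu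
  obtain ⟨-, hsupp, hFsub, -⟩ := liftElt_props hP.pair hz0 hz0e T hTP
  rw [SLE.unique hP.pair (subIdem_spec hP.pair hTP) hb] at hFsub
  set F := liftElt P (subIdem p P e hP.pair) z0 T with hF
  by_contra hcon
  push Not at hcon
  apply hτ
  rw [← tauChar_liftElt hP.pair hz0 hz0e χ T hTP, ← hF, ← hFsub, tauChar_mul]
  refine Finset.sum_eq_zero fun x _ => ?_
  by_cases hx : x ∈ Subgroup.centralizer (T : Set G)
  swap
  · rw [hsupp x hx, zero_mul]
  have hxu : Commute x u := (mem_centralizer_zpowers_iff).1 hx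
  have hxD : x ∈ Subgroup.centralizer ({u} : Set G) :=
    Subgroup.mem_centralizer_singleton_iff.2 hxu.eq
  rw [mul_eq_zero]
  right
  have hval : blockPart b.1 (translate u (χ : G → ℂ)) ⟨x, hxD⟩ =
      ((∑ d : G, (⟨subgroupBlockCoeff _ b.1 d, subgroupBlockCoeff_mem b.2 d⟩ : locRing M) *
        ⟨(χ : G → ℂ) (u * (d * x)), char_mem_locRing χ _⟩ : locRing M) : ℂ) := by
    rw [AddSubmonoidClass.coe_finsetSum, Cfsg.Agent.S0923.blockPart_eq b.1 _
      (isClassFunction_translate' (CfsgLib.Char.IsIrrCharacter.isClassFunction χ.2)),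
      finsum_eq_sum_of_fintype,
      ← Finset.sum_subset (Finset.subset_univ ((Finset.univ : Finset (Subgroup.centralizer ({u} : Set G))).map
        ⟨Subtype.val, Subtype.val_injective⟩)) (fun d _ hd => ?_), Finset.sum_map]
    · refine Finset.sum_congr rfl fun d _ => ?_
      simp [subgroupBlockCoeff, translate]
    · have hdD : d ∉ Subgroup.centralizer ({u} : Set G) := fun h =>
        hd (Finset.mem_map.mpr ⟨⟨d, h⟩, Finset.mem_univ _, rfl⟩)
      simp [subgroupBlockCoeff, hdD]
  have hmem : blockPart b.1 (translate u (χ : G → ℂ)) ⟨x, hxD⟩ ∈ locRing M := by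
    rw [hval]; exact SetLike.coe_mem _
  have h2 := red_blockPart_eq_zero hM χ hcon ⟨x, hxD⟩ hmem
  rw [← h2, show (⟨_, hmem⟩ : locRing M) = _ from Subtype.ext hval, map_sum]
  refine Finset.sum_congr rfl fun d _ => ?_
  rw [map_mul, ← coeff_eIn b.2]
  by_cases hd : d ∈ Subgroup.centralizer ({u} : Set G)
  · congr 1
    show chiR χ (x * d) = chiR χ (u * (d * x))
    have hdu : Commute d u := Subgroup.mem_centralizer_singleton_iff.1 hd
    rw [chiR_mul_pElement hM χ ⟨k, hk⟩ (hdu.symm.mul_right hxu.symm), chiR_mul_comm]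
  · rw [(isBlockIdem_eIn b.2).mem.supp d hd, zero_mul, zero_mul]

/-- **Central elements**: no character vanishes on the subsection below the maximal pair. -/
theorem exists_blockPart_ne_zero_of_central (hM : IsPModular p M) {B : Set (IrrCharacter G)}
    (hB : IsPBlock M B) (hP : PairOf p (ebar hB) P e) (hno : NoExt p P e) {χ : IrrCharacter G}
    (hχ : χ ∈ B) {u : G} (hu : u ∈ P) (huC : u ∈ Subgroup.centralizer (P : Set G))
    (b : {b : Set (IrrCharacter (Subgroup.centralizer ({u} : Set G))) // IsPBlock M b})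
    (hb : SLE p (Subgroup.zpowers u) (eIn b.2) P e) :
    ∃ c : Subgroup.centralizer ({u} : Set G), IsPRegular p c ∧
      blockPart b.1 (translate u (χ : G → ℂ)) c ≠ 0 := by
  obtain ⟨k, hk⟩ := IsPGroup.iff_orderOf.1 hP.pair.pgroup ⟨u, hu⟩
  rw [Subgroup.orderOf_mk] at hk
  have hfB := (SLE.pairOf_iff hb).1 hP
  have hind := (isInducedBlock_singleton_iff hM hfB.pair.pgroup hB b.2).2 hfB
  have hH : Subgroup.centralizer ({u} : Set G) =
      Subgroup.centralizer (Subgroup.zpowers u : Set G) := by
    rw [Subgroup.zpowers_eq_closure, Subgroup.centralizer_closure]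
  have hPH : P ≤ Subgroup.centralizer (Subgroup.zpowers u : Set G) := fun a ha => by
    rw [← hH, Subgroup.mem_centralizer_singleton_iff]
    exact Subgroup.mem_centralizer_iff.1 huC a ha
  have hloc := CfsgLib.Blk83.local_pair_central hP hno hPH hb
  rw [← hH] at hloc
  obtain ⟨hP', hno'⟩ := hloc
  rw [show down (Subgroup.centralizer ({u} : Set G)) (eIn b.2) = ebar b.2 by rw [eIn, down_up]] at hP'
  have hdef : blockDefect p b.1 = blockDefect p B := by
    refine Nat.pow_right_injective (Fact.out : p.Prime).two_le ?_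
    show p ^ blockDefect p b.1 = p ^ blockDefect p B
    rw [← card_defectGroup hM b.2 ((isDefectGroup_iff_maxR hM b.2).2 (maxR_of_noExt hP' hno')),
      ← card_defectGroup hM hB ((isDefectGroup_iff_maxR hM hB).2 (maxR_of_noExt hP hno))]
    exact Nat.card_congr (Subgroup.subgroupOfEquivOfLe (hH ▸ hPH)).toEquiv
  obtain ⟨ψ, hψ, hh⟩ := CfsgLib.BlockReg.exists_minExp (p := p)
    (CfsgLib.BlockReg.block_nonempty hM hB)
  haveI := Fintype.ofFinite (Subgroup.centralizer ({u} : Set G))
  by_contra hcon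
  push Not at hcon
  refine contrib_ne_zero hM rfl ⟨k, hk⟩ hind hdef hχ hψ hh ?_
  have h0 : regPair p (blockPart b.1 (translate u (χ : G → ℂ)))
      (blockPart b.1 (translate u (ψ : G → ℂ))) = 0 := by
    rw [regPair]
    exact Finset.sum_eq_zero fun s hs => by rw [hcon s (Finset.mem_filter.1 hs).2, zero_mul]
  rw [contrib]
  show _ * (_ * regPair p (blockPart b.1 (translate u (χ : G → ℂ)))
      (blockPart b.1 (translate u (ψ : G → ℂ)))) = 0
  rw [h0, mul_zero, mul_zero]

end CfsgLib.StarAction
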