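import Cfsg.Agent.Lib.StarAction.Virtual
import Cfsg.Agent.Lib.StarAction.Nonvanish
import Cfsg.Agent.Lib.Blk83.PairFusion

/-!
# Counting the characters of a given height

The linear characters of `P` that are trivial on the focal subgroup act on the characters of a
given height of the block. An element `u` of `P` on whose subsection a character does not vanish
is killed by every linear character fixing that character, and this gives the divisibilities.
-/

set_option autoImplicit false
set_option maxHeartbeats 400000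

namespace CfsgLib.StarAction

open Cfsg CfsgLib.Blocks CfsgLib.Blocks.Pairs
open scoped Classical

universe u

/-- Orbits of an action whose stabilizers lie in `R` have lengths divisible by the index of `R`. -/
theorem index_dvd_card_of_stabilizer_le {D : Type*} [Group D] [Finite D] {X : Type*} [Finite X]
    [MulAction D X] {R : Subgroup D} (h : ∀ x : X, MulAction.stabilizer D x ≤ R) :
    R.index ∣ Nat.card X := by
  haveI := Fintype.ofFinite (Quotient (MulAction.orbitRel D X))
  rw [Nat.card_congr (MulAction.selfEquivSigmaOrbits D X), Nat.card_sigma]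
  refine Finset.dvd_sum fun ω _ => ?_
  have h1 : (MulAction.stabilizer D ω.out).index = Nat.card (MulAction.orbit D ω.out) := by
    rw [MulAction.index_stabilizer, Nat.card_coe_set_eq]
  rw [← h1]
  exact Subgroup.index_dvd_of_le (h _)

variable {G : Type u} [Group G] [Fintype G] {p : ℕ} [Fact p.Prime] {M : Ideal AlgInt} [M.IsMaximal]
  [CharP (ResField M) p] {P : Subgroup G} {e : MonoidAlgebra (ResField M) G}

/-- The commutators of `P` lie in the focal subgroup. -/
theorem comm_mem_focal (hP : IsPair p P e) {a x : G} (ha : a ∈ P) (hx : x ∈ P) :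
    a⁻¹ * (x * a * x⁻¹) ∈ (pairFusion p P e hP).focalSubgroup :=
  Subgroup.subset_closure ⟨P, Cfsg.conjHom P x, ⟨a, ha⟩,
    ⟨x, fun _ => rfl, e, SLE.refl P e, sle_conj_of_mem hP (SLE.refl P e) hx⟩, rfl⟩

theorem focal_normal (hP : IsPair p P e) :
    ((pairFusion p P e hP).focalSubgroup.subgroupOf P).Normal := by
  refine ⟨fun a ha x => ?_⟩
  rw [Subgroup.mem_subgroupOf] at ha ⊢
  have h := Subgroup.mul_mem _ ha (comm_mem_focal hP a.2 x.2)
  rw [mul_inv_cancel_left] at h
  simpa using h

/-- A linear character trivial on the focal subgroup is a twist. -/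
theorem isTwist_of_focal (hP : IsPair p P e) (lam : P →* ℂˣ)
    (h : ∀ a : P, (a : G) ∈ (pairFusion p P e hP).focalSubgroup → lam a = 1) :
    IsTwist p P e lam := by
  intro Q f g h1 h2 a b ha hb
  have hmem : ((a⁻¹ * b : P) : G) ∈ (pairFusion p P e hP).focalSubgroup := by
    rw [Subgroup.coe_mul, InvMemClass.coe_inv, hb]
    exact Subgroup.subset_closure ⟨Q, Cfsg.conjHom Q g, ⟨(a : G), ha⟩,
      ⟨g, fun _ => rfl, f, h1, h2⟩, rfl⟩
  have h3 := h _ hmem
  rw [map_mul, map_inv, inv_mul_eq_one] at h3
  exact h3.symm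

/-- If the twist fixes a character not vanishing on the subsection of `u`, it kills `u`. -/
theorem apply_eq_one_of_fixed (hM : IsPModular p M) (hP : IsPair p P e) {lam : P →* ℂˣ}
    (tw : IsTwist p P e lam) {χ : IrrCharacter G}
    (hfix : starChar p P e lam (χ : G → ℂ) = (χ : G → ℂ)) (u : P)
    (hnv : ∀ b : {b : Set (IrrCharacter (Subgroup.centralizer ({(u : G)} : Set G))) //
        IsPBlock M b}, SLE p (Subgroup.zpowers (u : G)) (eIn b.2) P e →
      ∃ c : Subgroup.centralizer ({(u : G)} : Set G), IsPRegular p c ∧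
        blockPart b.1 (translate (u : G) (χ : G → ℂ)) c ≠ 0) :
    lam u = 1 := by
  obtain ⟨f, hf⟩ := (existsUnique_sle hP (Subgroup.zpowers_le.2 u.2)).1
  have hfb : IsBlockIdem (Subgroup.centralizer ({(u : G)} : Set G)) f := by
    have h := (hf.pair_left hP).block
    rwa [Subgroup.zpowers_eq_closure, Subgroup.centralizer_closure] at h
  obtain ⟨b₀, hb₀, rfl⟩ := exists_eIn_eq hfb
  obtain ⟨k, hk⟩ := IsPGroup.iff_orderOf.1 hP.pgroup u
  have h1 := blkWt_eq_one_of_fixed hM χ hfix (u := (u : G)) ⟨k, by rw [Subgroup.orderOf_coe, hk]⟩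
    ⟨b₀, hb₀⟩ (hnv ⟨b₀, hb₀⟩ hf)
  have hx : SLE p (conjSub 1 (Subgroup.zpowers (u : G))) (conjA 1 (eIn hb₀)) P e := by
    simpa [conjSub_one, conjA_one] using hf
  rw [blkWt, wt_eq tw hx (Subgroup.mem_zpowers (u : G))] at h1
  have h2 : lam u = lam ⟨1 * (u : G) * 1⁻¹, by simp⟩ := by congr 1; apply Subtype.ext; simp
  rw [h2]
  exact Units.ext h1

/-- The linear characters of `P` trivial on the focal subgroup act on the characters of height `h`
with degrees preserved and with stabilizers trivial on `Z`. -/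
theorem exists_focal_action (hM : IsPModular p M) {B : Set (IrrCharacter G)} (hB : IsPBlock M B)
    (hP : PairOf p (ebar hB) P e) (hno : NoExt p P e) (h : ℕ) (Z : Subgroup P)
    (hnv : ∀ χ : IrrCharacter G, χ ∈ B → blockHeight p B (χ : G → ℂ) = h → ∀ u ∈ Z,
      ∀ b : {b : Set (IrrCharacter (Subgroup.centralizer ({((u : P) : G)} : Set G))) //
        IsPBlock M b}, SLE p (Subgroup.zpowers (u : G)) (eIn b.2) P e →
      ∃ c : Subgroup.centralizer ({((u : P) : G)} : Set G), IsPRegular p c ∧
        blockPart b.1 (translate (u : G) (χ : G → ℂ)) c ≠ 0) :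
    ∃ (D : Type u) (_ : Group D) (_ : Finite D)
      (_ : MulAction D {χ : IrrCharacter G // χ ∈ B ∧ blockHeight p B (χ : G → ℂ) = h})
      (R : Subgroup D),
      R.index = ((pairFusion p P e hP.pair).focalSubgroup.subgroupOf P).relIndex Z ∧
      Nat.card D = ((pairFusion p P e hP.pair).focalSubgroup.subgroupOf P).index ∧
      (∀ (φ : D) (χ : {χ : IrrCharacter G // χ ∈ B ∧ blockHeight p B (χ : G → ℂ) = h}),
        charDegree ((φ • χ).1 : G → ℂ) = charDegree (χ.1 : G → ℂ)) ∧
      ∀ χ : {χ : IrrCharacter G // χ ∈ B ∧ blockHeight p B (χ : G → ℂ) = h},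
        MulAction.stabilizer D χ ≤ R := by
  set K := (pairFusion p P e hP.pair).focalSubgroup.subgroupOf P with hK
  haveI : K.Normal := focal_normal hP.pair
  let cg : CommGroup (P ⧸ K) :=
    { (inferInstance : Group (P ⧸ K)) with
      mul_comm := by
        intro x y
        induction x using QuotientGroup.induction_on with
        | _ a =>
        induction y using QuotientGroup.induction_on with
        | _ b =>
        rw [← QuotientGroup.mk_mul, ← QuotientGroup.mk_mul, QuotientGroup.eq, hK,
          Subgroup.mem_subgroupOf]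
        have := comm_mem_focal hP.pair b.2 (P.inv_mem a.2)
        simpa [mul_assoc] using this }
  let D := (P ⧸ K) →* ℂˣ
  let lamOf : D → (P →* ℂˣ) := fun φ => φ.comp (QuotientGroup.mk' K)
  have htw : ∀ φ : D, IsTwist p P e (lamOf φ) := fun φ =>
    isTwist_of_focal hP.pair _ fun a ha => by
      show φ (a : P ⧸ K) = 1
      rw [(QuotientGroup.eq_one_iff a).2 ha, map_one]
  have hirr : ∀ (φ : D) (χ : {χ : IrrCharacter G // χ ∈ B ∧ blockHeight p B (χ : G → ℂ) = h}),
      IsIrrCharacter G (starChar p P e (lamOf φ) (χ.1 : G → ℂ)) := fun φ χ =>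
    isIrrCharacter_starChar hM (htw φ) χ.1
      (isGeneralizedCharacter_starChar hM hB hP hno (htw φ) χ.2.1)
  have hdeg : ∀ (φ : D) (χ : IrrCharacter G),
      charDegree (starChar p P e (lamOf φ) (χ : G → ℂ)) = charDegree (χ : G → ℂ) := fun φ χ => by
    unfold charDegree
    rw [starChar_apply_one hM (CfsgLib.Char.IsIrrCharacter.isClassFunction χ.2)]
  let act : MulAction D {χ : IrrCharacter G // χ ∈ B ∧ blockHeight p B (χ : G → ℂ) = h} :=
    { smul := fun φ χ => ⟨⟨_, hirr φ χ⟩, mem_block_of_starChar hM hB χ.2.1 rfl, by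
        have h1 := starChar_apply_one (p := p) (P := P) (e := e) (lam := lamOf φ) hM
          (CfsgLib.Char.IsIrrCharacter.isClassFunction χ.1.2)
        refine Eq.trans ?_ χ.2.2
        show blockHeight p B (starChar p P e (lamOf φ) (χ.1 : G → ℂ)) = _
        simp only [blockHeight, charDegree, h1]⟩
      one_smul := fun χ => Subtype.ext (Subtype.ext
        (starChar_trivial hM (CfsgLib.Char.IsIrrCharacter.isClassFunction χ.1.2)))
      mul_smul := fun φ ψ χ => Subtype.ext (Subtype.ext (by
        refine Eq.trans ?_ (starChar_starChar hM).symm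
        show starChar p P e (lamOf (φ * ψ)) _ = _
        rw [show lamOf (φ * ψ) = lamOf ψ * lamOf φ from MonoidHom.ext fun a => mul_comm _ _])) }
  haveI : HasEnoughRootsOfUnity ℂ (Monoid.exponent (P ⧸ K)) := inferInstance
  set Zb : Subgroup (P ⧸ K) := Z.map (QuotientGroup.mk' K) with hZb
  have hsurj : Function.Surjective (MonoidHom.domRestrictHom Zb ℂˣ) :=
    MonoidHom.domRestrict_surjective ℂ Zb
  have hfin : Finite D := Finite.of_equiv _
    (CommGroup.monoidHom_mulEquiv_of_hasEnoughRootsOfUnity (P ⧸ K) ℂ).some.symm.toEquiv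
  have hR : (MonoidHom.domRestrictHom Zb ℂˣ).ker.index = K.relIndex Z := by
    haveI : HasEnoughRootsOfUnity ℂ (Monoid.exponent Zb) := inferInstance
    rw [Subgroup.index_ker, MonoidHom.range_eq_top.2 hsurj, Subgroup.card_top,
      CommGroup.card_monoidHom_of_hasEnoughRootsOfUnity, hZb, ← Subgroup.relIndex_ker,
      QuotientGroup.ker_mk']
  refine ⟨D, inferInstance, hfin, act, (MonoidHom.domRestrictHom Zb ℂˣ).ker, hR, ?_,
    fun φ χ => hdeg φ χ.1, fun χ φ hφ => ?_⟩
  · rw [CommGroup.card_monoidHom_of_hasEnoughRootsOfUnity]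
    exact (Subgroup.index_eq_card K).symm
  rw [MonoidHom.mem_ker]
  ext ⟨z, hz⟩
  obtain ⟨u, hu, rfl⟩ := Subgroup.mem_map.1 hz
  have h1 : lamOf φ u = 1 := apply_eq_one_of_fixed hM hP.pair (htw φ)
    (congrArg (fun x : {χ : IrrCharacter G // χ ∈ B ∧ blockHeight p B (χ : G → ℂ) = h} =>
      (x.1 : G → ℂ)) (MulAction.mem_stabilizer_iff.1 hφ)) u (hnv χ.1 χ.2.1 χ.2.2 u hu)
  exact congrArg Units.val h1


/-- The divisibility attached to a set of elements on which nothing vanishes. -/
theorem relIndex_focal_dvd (hM : IsPModular p M) {B : Set (IrrCharacter G)} (hB : IsPBlock M B)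
    (hP : PairOf p (ebar hB) P e) (hno : NoExt p P e) (h : ℕ) (Z : Subgroup P)
    (hnv : ∀ χ : IrrCharacter G, χ ∈ B → blockHeight p B (χ : G → ℂ) = h → ∀ u ∈ Z,
      ∀ b : {b : Set (IrrCharacter (Subgroup.centralizer ({((u : P) : G)} : Set G))) //
        IsPBlock M b}, SLE p (Subgroup.zpowers (u : G)) (eIn b.2) P e →
      ∃ c : Subgroup.centralizer ({((u : P) : G)} : Set G), IsPRegular p c ∧
        blockPart b.1 (translate (u : G) (χ : G → ℂ)) c ≠ 0) :
    ((pairFusion p P e hP.pair).focalSubgroup.subgroupOf P).relIndex Z ∣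
      Nat.card {χ : IrrCharacter G // χ ∈ B ∧ blockHeight p B (χ : G → ℂ) = h} := by
  obtain ⟨D, iD, hfin, act, R, hR, -, -, hle⟩ := exists_focal_action hM hB hP hno h Z hnv
  rw [← hR]
  exact index_dvd_card_of_stabilizer_le hle

end CfsgLib.StarAction
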