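import Cfsg.Agent.Lib.Char.Brauer
import Cfsg.Agent.Lib.Char.Monomial
import Cfsg.Agent.Lib.Char.Virtual
import Cfsg.Agent.Lib.Char.Complete

/-!
# A test for virtual characters by linear characters of nilpotent subgroups
-/

set_option autoImplicit false

open scoped ComplexConjugate

namespace CfsgLib.StarAction

universe u

/-- A class function whose restrictions to nilpotent subgroups have integral inner products with
all linear characters is a virtual character. -/
theorem isGeneralizedCharacter_of_linear {G : Type u} [Group G] [Fintype G] (θ : G → ℂ)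
    (hθ : Cfsg.IsClassFunction G θ)
    (h : ∀ H : Subgroup G, Group.IsNilpotent H → ∀ [Fintype H] (η : H →* ℂˣ),
      ∃ k : ℤ, ∑ x : H, θ x * conj (η x : ℂ) = (Nat.card H : ℂ) * k) :
    Cfsg.IsGeneralizedCharacter G θ := by
  classical
  refine CfsgLib.Char.isGeneralizedCharacter_of_elementary θ hθ fun E q hq hE => ?_
  haveI : Group.IsNilpotent E := CfsgLib.Char.isNilpotent_of_isElementary hq hE
  set θE : E → ℂ := fun e => θ e with hθEdef
  have hθE : Cfsg.IsClassFunction E θE := fun a b => by
    simpa [hθEdef] using hθ (a : G) (b : G)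
  rw [CfsgLib.Char.IsClassFunction.eq_sum_classInner hθE]
  refine CfsgLib.Char.IsGeneralizedCharacter.sum _ _ fun ψ _ => ?_
  obtain ⟨H, η, hψ⟩ := CfsgLib.Monomial.exists_linear_indFun (ψ : E → ℂ) ψ.2
  let e := H.equivMapOfInjective E.subtype E.subtype_injective
  haveI : Fintype (H.map E.subtype) := Fintype.ofFinite _
  obtain ⟨k, hk⟩ := h (H.map E.subtype) (Group.nilpotent_of_mulEquiv e) (η.comp e.symm.toMonoidHom)
  have hinner : Cfsg.classInner θE (ψ : E → ℂ) = (k : ℂ) := by
    rw [← CfsgLib.Char.classInner_conj_symm, hψ, CfsgLib.Char.classInner_indFun _ _ _ hθE,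
      CfsgLib.Char.classInner_conj_symm, Cfsg.classInner]
    have hc : Nat.card H = Nat.card (H.map E.subtype) := Nat.card_congr e.toEquiv
    rw [hc, inv_mul_eq_iff_eq_mul₀ (Nat.cast_ne_zero.2 Nat.card_pos.ne'), ← hk]
    refine Fintype.sum_equiv e.toEquiv _ _ fun x => ?_
    simp [θE, e, Subgroup.coe_equivMapOfInjective_apply]
  rw [hinner]
  exact CfsgLib.Char.IsGeneralizedCharacter.intCast_smul
    (CfsgLib.Char.IsIrrCharacter.isGeneralizedCharacter ψ.2) k

end CfsgLib.StarAction
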