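import Cfsg.Agent.Lib.Blocks.Local
import Mathlib.LinearAlgebra.Matrix.Charpoly.Coeff
import Mathlib.Analysis.Complex.Polynomial.Basic
import Mathlib.RingTheory.Polynomial.ScaleRoots
import Mathlib.RingTheory.IntegralClosure.IsIntegralClosure.Basic
import Mathlib.RingTheory.Coprime.Lemmas
import Mathlib.Tactic.LinearCombination

/-!
# Lifting idempotent matrices to the local ring of the algebraic integers

The local ring at `M` is integrally closed in `ℂ`, so a characteristic polynomial splits over it
and an idempotent matrix over the residue field is the reduction of an idempotent matrix which is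
a polynomial in any given lift.
-/

set_option autoImplicit false

namespace CfsgLib.StarAction

open Cfsg CfsgLib.Blocks Polynomial
open scoped Classical

variable {M : Ideal AlgInt} [M.IsMaximal]

theorem exists_mul_eq_algInt {z : ℂ} (hz : z ∈ locRing M) :
    ∃ b : AlgInt, b ∉ M ∧ ∃ a : AlgInt, z * (b : ℂ) = (a : ℂ) := by
  obtain ⟨a, b, hb, h⟩ := hz
  exact ⟨b, hb, a, by rw [← h, div_mul_cancel₀ _ (algInt_coe_ne_zero hb)]⟩

/-- Finitely many local integers have a common denominator. -/
theorem exists_common_den {ι : Type*} (s : Finset ι) (z : ι → ℂ) (hz : ∀ i ∈ s, z i ∈ locRing M) :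
    ∃ b : AlgInt, b ∉ M ∧ ∀ i ∈ s, ∃ a : AlgInt, z i * (b : ℂ) = (a : ℂ) := by
  induction s using Finset.induction with
  | empty =>
    exact ⟨1, fun h => Ideal.IsPrime.ne_top (I := M) inferInstance
      ((Ideal.eq_top_iff_one M).2 h), by simp⟩
  | insert i s hi ih =>
    obtain ⟨b, hb, hbs⟩ := ih fun j hj => hz j (Finset.mem_insert_of_mem hj)
    obtain ⟨c, hc, a, hac⟩ := exists_mul_eq_algInt (hz i (Finset.mem_insert_self i s))
    refine ⟨b * c, fun h => (Ideal.IsPrime.mem_or_mem inferInstance h).elim hb hc, fun j hj => ?_⟩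
    rcases Finset.mem_insert.1 hj with rfl | hj
    · exact ⟨b * a, by push_cast; rw [← hac]; ring⟩
    · obtain ⟨a', ha'⟩ := hbs j hj
      exact ⟨a' * c, by push_cast; rw [← ha']; ring⟩

/-- The local ring is integrally closed in `ℂ`. -/
theorem mem_locRing_of_monic_root (q : (locRing M)[X]) (hq : q.Monic) (z : ℂ)
    (hz : (q.map (locRing M).subtype).IsRoot z) : z ∈ locRing M := by
  obtain ⟨b, hb, hbs⟩ := exists_common_den (M := M) (Finset.range q.natDegree)
    (fun i => (q.coeff i : ℂ)) (fun i _ => (q.coeff i).2)
  choose a ha using hbs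
  have hint : IsIntegral ℤ ((b : ℂ) * z) := by
    set P : ℂ[X] := (q.map (locRing M).subtype) with hP
    have hPm : P.Monic := hq.map _
    have hdeg : P.natDegree = q.natDegree := hq.natDegree_map _
    have hroot : (P.scaleRoots (b : ℂ)).IsRoot ((b : ℂ) * z) := by
      have := scaleRoots_eval₂_mul (p := P) (RingHom.id ℂ) z (b : ℂ)
      simp only [eval₂_id, RingHom.id_apply] at this
      rw [IsRoot, this, hz.eq_zero, mul_zero]
    have hcoeff : ∀ i, (P.scaleRoots (b : ℂ)).coeff i ∈ Subalgebra.toSubring AlgInt := by
      intro i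
      rw [coeff_scaleRoots, hdeg, hP, coeff_map]
      rcases lt_trichotomy i q.natDegree with hlt | heq | hgt
      · have h1 := ha i (Finset.mem_range.2 hlt)
        obtain ⟨m, hm⟩ : ∃ m, q.natDegree - i = m + 1 := ⟨q.natDegree - i - 1, by omega⟩
        rw [hm, pow_succ', ← mul_assoc]
        show ((locRing M).subtype (q.coeff i)) * (b : ℂ) * (b : ℂ) ^ m ∈ _
        rw [show ((locRing M).subtype (q.coeff i)) * (b : ℂ) = (a i (Finset.mem_range.2 hlt) : ℂ)
          from h1]
        exact mul_mem (a i _).2 (pow_mem b.2 _)
      · subst heq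
        simp [hq.coeff_natDegree]
      · rw [coeff_eq_zero_of_natDegree_lt hgt]
        simp
    have hlift : P.scaleRoots (b : ℂ) ∈ lifts (algebraMap AlgInt ℂ) := by
      rw [lifts_iff_coeff_lifts]
      exact fun n => ⟨⟨_, hcoeff n⟩, rfl⟩
    obtain ⟨r, hr, -, hrm⟩ :=
      lifts_and_degree_eq_and_monic hlift ((monic_scaleRoots_iff (b : ℂ)).2 hPm)
    have h2 : IsIntegral AlgInt ((b : ℂ) * z) :=
      ⟨r, hrm, by rw [← eval_map, hr]; exact hroot.eq_zero⟩
    exact isIntegral_trans (R := ℤ) _ h2
  refine mem_locRing_iff.2 ⟨⟨(b : ℂ) * z, hint⟩, b, hb, ?_⟩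
  exact mul_div_cancel_left₀ z (algInt_coe_ne_zero hb)

/-- Polynomials in an idempotent matrix act by their value at one on its image. -/
theorem mul_aeval_idem {F A : Type*} [Field F] [Ring A] [Algebra F A] {P : A} (hP : P * P = P)
    (h : F[X]) : P * aeval P h = h.eval 1 • P := by
  induction h using Polynomial.induction_on' with
  | add f g hf hg => rw [map_add, mul_add, hf, hg, eval_add, add_smul]
  | monomial n c =>
    have hn : P * P ^ n = P := by
      induction n with
      | zero => rw [pow_zero, mul_one]
      | succ n ih => rw [pow_succ, ← mul_assoc, ih, hP]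
    rw [aeval_monomial, eval_monomial, one_pow, mul_one, ← Algebra.smul_def, mul_smul_comm, hn]

/-- Polynomials in an idempotent matrix act by their value at zero on its kernel. -/
theorem one_sub_mul_aeval_idem {F A : Type*} [Field F] [Ring A] [Algebra F A] {P : A}
    (hP : P * P = P) (h : F[X]) : (1 - P) * aeval P h = h.eval 0 • (1 - P) := by
  induction h using Polynomial.induction_on' with
  | add f g hf hg => rw [map_add, mul_add, hf, hg, eval_add, add_smul]
  | monomial n c =>
    rw [aeval_monomial, eval_monomial, ← Algebra.smul_def, mul_smul_comm]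
    cases n with
    | zero => simp
    | succ n =>
      rw [pow_succ', ← mul_assoc (1 - P), sub_mul, one_mul, hP, sub_self, zero_mul, smul_zero,
        zero_pow (Nat.succ_ne_zero n), mul_zero, zero_smul]

variable {n : Type*} [Fintype n] [DecidableEq n]

/-- An idempotent over the residue field is the reduction of an idempotent polynomial in any of
its lifts. -/
theorem exists_idem_lift (A : Matrix n n (locRing M)) (hA : A.map (red M) * A.map (red M) = A.map (red M)) :
    ∃ h : (locRing M)[X], aeval A h * aeval A h = aeval A h ∧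
      (aeval A h).map (red M) = A.map (red M) := by
  set f := red M with hf
  set P := A.map f with hP
  set c := A.charpoly with hc
  have hcm : c.Monic := A.charpoly_monic
  -- the roots lie in the local ring
  set s : Multiset ℂ := (c.map (locRing M).subtype).roots with hs
  have hsmem : ∀ z ∈ s, z ∈ locRing M := fun z hz =>
    mem_locRing_of_monic_root c hcm z (isRoot_of_mem_roots hz)
  set t : Multiset (locRing M) := s.attach.map (fun z => ⟨z.1, hsmem z.1 z.2⟩) with ht
  have hsplit : c = (t.map fun r => X - C r).prod := by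
    apply Polynomial.map_injective (locRing M).subtype Subtype.val_injective
    rw [Polynomial.map_multiset_prod, Multiset.map_map, ht, Multiset.map_map]
    conv_lhs =>
      rw [(IsAlgClosed.splits (c.map (locRing M).subtype)).eq_prod_roots_of_monic (hcm.map _)]
    rw [← hs]
    congr 1
    conv_lhs => rw [← Multiset.attach_map_val s, Multiset.map_map]
    exact Multiset.map_congr rfl fun z _ => by simp
  set F0 : (locRing M)[X] := ((t.filter fun r => f r = 0).map fun r => X - C r).prod with hF0
  set G0 : (locRing M)[X] := ((t.filter fun r => ¬ f r = 0).map fun r => X - C r).prod with hG0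
  have hFG : F0 * G0 = c := by
    rw [hF0, hG0, ← Multiset.prod_add, ← Multiset.map_add, Multiset.filter_add_not, ← hsplit]
  have hco : IsCoprime F0 G0 := by
    rw [hF0]
    refine Multiset.prod_induction (fun q => IsCoprime q G0) _ (fun a b => IsCoprime.mul_left)
      isCoprime_one_left fun q hq => ?_
    obtain ⟨r, hr, rfl⟩ := Multiset.mem_map.1 hq
    rw [hG0]
    refine Multiset.prod_induction (fun q => IsCoprime (X - C r) q) _
      (fun a b => IsCoprime.mul_right) isCoprime_one_right fun q' hq' => ?_
    obtain ⟨r', hr', rfl⟩ := Multiset.mem_map.1 hq'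
    have h1 := (Multiset.mem_filter.1 hr).2
    have h2 := (Multiset.mem_filter.1 hr').2
    obtain ⟨u, hu⟩ := isUnit_of_red_ne_zero (M := M) (z := r' - r)
      (by rw [map_sub, ← hf, h1, sub_zero]; exact h2)
    refine ⟨C (↑u⁻¹ : locRing M), -C (↑u⁻¹ : locRing M), ?_⟩
    calc C (↑u⁻¹ : locRing M) * (X - C r) + -C (↑u⁻¹ : locRing M) * (X - C r')
        = C (↑u⁻¹ : locRing M) * (C r' - C r) := by ring
      _ = 1 := by rw [← map_sub, ← map_mul, ← hu, Units.inv_mul, map_one]
  obtain ⟨a, b, hab⟩ := hco
  have hCH : aeval A c = 0 := A.aeval_self_charpoly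
  refine ⟨a * F0, ?_, ?_⟩
  · rw [← map_mul,
      show a * F0 * (a * F0) = a * F0 - a * b * c by
        rw [← hFG]; linear_combination (a * F0) * hab,
      map_sub, map_mul _ (a * b) c, hCH, mul_zero, sub_zero]
  · have hmap : ∀ q : (locRing M)[X], (aeval A q).map f = aeval P (q.map f) := by
      intro q
      induction q using Polynomial.induction_on' with
      | add q r hq hr => rw [map_add, Polynomial.map_add, map_add, ← hq, ← hr, Matrix.map_add]; simp
      | monomial k x =>
        rw [map_monomial, aeval_monomial, aeval_monomial, ← Algebra.smul_def, ← Algebra.smul_def]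
        have hk : (A ^ k).map f = P ^ k := map_pow f.mapMatrix A k
        rw [← hk]
        ext i j
        simp [hP]
    have hPp : P.charpoly = c.map f := by rw [hP, hc, Matrix.charpoly_map]
    have hdet : ∀ μ : ResField M, (c.map f).eval μ = (Matrix.scalar n μ - P).det := fun μ => by
      rw [← hPp, Matrix.eval_charpoly]
    have habf : a.map f * F0.map f + b.map f * G0.map f = 1 := by
      rw [← Polynomial.map_mul, ← Polynomial.map_mul, ← Polynomial.map_add, hab, Polynomial.map_one]
    have hF1 : (F0.map f).eval 1 ≠ 0 := by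
      rw [hF0, Polynomial.map_multiset_prod, eval_multiset_prod, Multiset.map_map, Multiset.map_map]
      refine Multiset.prod_ne_zero fun h0 => ?_
      obtain ⟨r, hr, hr0⟩ := Multiset.mem_map.1 h0
      simp [(Multiset.mem_filter.1 hr).2] at hr0
    have hG0' : (G0.map f).eval 0 ≠ 0 := by
      rw [hG0, Polynomial.map_multiset_prod, eval_multiset_prod, Multiset.map_map, Multiset.map_map]
      refine Multiset.prod_ne_zero fun h0 => ?_
      obtain ⟨r, hr, hr0⟩ := Multiset.mem_map.1 h0
      exact (Multiset.mem_filter.1 hr).2 (by simpa using hr0)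
    have h1 : P * (aeval A (a * F0)).map f = P := by
      by_cases hP0 : P = 0
      · rw [hP0, zero_mul]
      have hG1 : (G0.map f).eval 1 = 0 := by
        by_contra hne
        have hu : (c.map f).eval 1 ≠ 0 := by
          rw [← hFG, Polynomial.map_mul, eval_mul]; exact mul_ne_zero hF1 hne
        rw [hdet, map_one] at hu
        have hz : IsUnit (1 - P) := (Matrix.isUnit_iff_isUnit_det _).2 (Ne.isUnit hu)
        exact hP0 (hz.mul_right_eq_zero.1 (by rw [sub_mul, one_mul, hA, sub_self]))
      rw [hmap, mul_aeval_idem hA, Polynomial.map_mul, eval_mul]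
      have h2 := congrArg (eval (1 : ResField M)) habf
      rw [eval_add, eval_mul, eval_mul, hG1, mul_zero, add_zero, eval_one] at h2
      rw [h2, one_smul]
    have h2 : (1 - P) * (aeval A (a * F0)).map f = 0 := by
      by_cases hP1 : P = 1
      · rw [hP1, sub_self, zero_mul]
      have hF00 : (F0.map f).eval 0 = 0 := by
        by_contra hne
        have hu : (c.map f).eval 0 ≠ 0 := by
          rw [← hFG, Polynomial.map_mul, eval_mul]; exact mul_ne_zero hne hG0'
        rw [hdet, map_zero, zero_sub] at hu
        have hz : IsUnit (-P) := (Matrix.isUnit_iff_isUnit_det _).2 (Ne.isUnit hu)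
        refine hP1 (sub_eq_zero.1 (hz.mul_right_eq_zero.1 ?_))
        rw [neg_mul, mul_sub, hA, mul_one, sub_self, neg_zero]
      rw [hmap, one_sub_mul_aeval_idem hA, Polynomial.map_mul, eval_mul, hF00, mul_zero, zero_smul]
    rw [sub_mul, one_mul, sub_eq_zero] at h2
    exact h2.trans h1

end CfsgLib.StarAction
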