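import Cfsg.Agent.Lib.Blocks.ClassSum
import Mathlib.Analysis.Complex.Basic
import Mathlib.GroupTheory.GroupAction.Quotient
import Mathlib.GroupTheory.PGroup
import Mathlib.RingTheory.IntegralDomain
import Mathlib.Algebra.BigOperators.Field

/-!
# Marks of a finite `p`-group on a poset of labelled subgroups

An abstract form of Dress's congruences: a finite `S`-set `Z` of labelled subgroups in which
below every label and every smaller subgroup there is exactly one label.  If a function `d` on
`Z` satisfies the congruences, the class function built from `d` and a compatible family of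
linear characters is a virtual character of `S`.
-/

set_option autoImplicit false

namespace CfsgLib.StarAction

open scoped Classical ComplexConjugate

universe u v

/-- An invariant function whose values are divisible by the orders of the stabilizers has total
divisible by the order of the group. -/
theorem card_dvd_sum_of_stabilizer {A : Type u} [Group A] [Finite A] {X : Type v} [MulAction A X]
    [Fintype X] (F : X → ℤ) (hF : ∀ (a : A) x, F (a • x) = F x)
    (h : ∀ x, (Nat.card (MulAction.stabilizer A x) : ℤ) ∣ F x) : (Nat.card A : ℤ) ∣ ∑ x, F x := by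
  haveI := Fintype.ofFinite A
  rw [← Finset.sum_fiberwise Finset.univ (Quotient.mk'' : X → MulAction.orbitRel.Quotient A X) F]
  refine Finset.dvd_sum fun q _ => ?_
  induction q using Quotient.inductionOn' with
  | h a =>
    have hset : (Finset.univ.filter fun x => (Quotient.mk'' x : MulAction.orbitRel.Quotient A X) =
        Quotient.mk'' a) = (MulAction.orbit A a).toFinset := by
      ext x
      simp only [Finset.mem_filter, Finset.mem_univ, true_and, Set.mem_toFinset]
      exact Quotient.eq''.trans Iff.rfl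
    have hconst : ∀ x ∈ (MulAction.orbit A a).toFinset, F x = F a := by
      intro x hx
      obtain ⟨g, rfl⟩ := Set.mem_toFinset.1 hx
      exact hF g a
    rw [hset, Finset.sum_congr rfl hconst, Finset.sum_const, Set.toFinset_card, nsmul_eq_mul]
    have horb := MulAction.card_orbit_mul_card_stabilizer_eq_card_group A a
    rw [Nat.card_eq_fintype_card, ← horb, Nat.cast_mul]
    obtain ⟨c, hc⟩ := h a
    exact ⟨c, by rw [hc, Nat.card_eq_fintype_card]; ring⟩

/-- The sum of a homomorphism to the nonzero complex numbers is the order or zero. -/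
theorem exists_int_sum_hom {T : Type u} [Group T] [Fintype T] (f : T →* ℂ) :
    ∃ k : ℤ, ∑ t : T, f t = (Nat.card T : ℂ) * k := by
  by_cases h : f = 1
  · exact ⟨1, by simp [h]⟩
  · exact ⟨0, by rw [sum_hom_units_eq_zero f h, Int.cast_zero, mul_zero]⟩

/-- A finite `S`-set of labelled subgroups. -/
structure LabelSet (S : Type u) [Group S] (Z : Type v) [MulAction S Z] where
  grp : Z → Subgroup S
  le : Z → Z → Prop
  refl : ∀ z, le z z
  trans : ∀ {a b c}, le a b → le b c → le a c
  grp_le : ∀ {a b}, le a b → grp a ≤ grp b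
  exists_below : ∀ z U, U ≤ grp z → ∃ z', le z' z ∧ grp z' = U
  unique : ∀ {z a b}, le a z → le b z → grp a = grp b → a = b
  grp_smul : ∀ (s : S) z, grp (s • z) = (grp z).map (MulAut.conj s).toMonoidHom
  le_smul : ∀ (s : S) {a b}, le a b → le (s • a) (s • b)
  fix : ∀ z, ∀ t ∈ grp z, t • z = z

namespace LabelSet

variable {S : Type u} [Group S] {Z : Type v} [MulAction S Z] (L : LabelSet S Z)

theorem le_iff_smul (s : S) (a b : Z) : L.le (s • a) (s • b) ↔ L.le a b :=
  ⟨fun h => by simpa [inv_smul_smul] using L.le_smul s⁻¹ h, L.le_smul s⟩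

theorem eq_of_le_of_grp {a b : Z} (h : L.le a b) (he : L.grp a = L.grp b) : a = b :=
  L.unique h (L.refl b) he

variable [Finite S]

theorem card_lt_of_le {a b : Z} (h : L.le a b) (hne : a ≠ b) :
    Nat.card (L.grp a) < Nat.card (L.grp b) :=
  lt_of_le_of_ne (Subgroup.card_le_of_le (L.grp_le h)) fun he =>
    hne (L.eq_of_le_of_grp h (Subgroup.eq_of_le_of_card_ge (L.grp_le h) he.ge))

variable [Fintype Z]

/-- The number of points with label exactly `a`: the inversion of `d` along the order. -/
noncomputable def moebius (d : Z → ℤ) (a : Z) : ℤ :=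
  d a - ∑ z : {z : Z // L.le a z ∧ a ≠ z}, moebius d z.1
termination_by (Finset.univ.filter fun z => L.le a z).card
decreasing_by
  refine Finset.card_lt_card ((Finset.ssubset_iff_of_subset fun x hx => ?_).2 ⟨a, ?_, fun ha => ?_⟩)
  · simp only [Finset.mem_filter, Finset.mem_univ, true_and] at hx ⊢
    exact L.trans z.2.1 hx
  · simpa using L.refl a
  · simp only [Finset.mem_filter, Finset.mem_univ, true_and] at ha
    exact z.2.2 (L.eq_of_le_of_grp z.2.1 (le_antisymm (L.grp_le z.2.1) (L.grp_le ha)))

theorem sum_moebius (d : Z → ℤ) (a : Z) :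
    d a = ∑ z ∈ Finset.univ.filter (fun z => L.le a z), L.moebius d z := by
  have h := moebius.eq_1 L d a
  rw [← Finset.sum_subtype (Finset.univ.filter fun z => L.le a z ∧ a ≠ z) (by simp)] at h
  rw [← Finset.add_sum_erase _ _ (show a ∈ Finset.univ.filter (fun z => L.le a z) by
    simpa using L.refl a)]
  rw [show (Finset.univ.filter fun z => L.le a z).erase a =
      Finset.univ.filter (fun z => L.le a z ∧ a ≠ z) by ext z; simp [and_comm, eq_comm]]
  omega

theorem moebius_smul (d : Z → ℤ) (hd : ∀ (s : S) z, d (s • z) = d z) (s : S) (a : Z) :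
    L.moebius d (s • a) = L.moebius d a := by
  induction hn : Nat.card S - Nat.card (L.grp a) using Nat.strong_induction_on generalizing a with
  | _ n ih =>
    rw [moebius.eq_1 L d (s • a), moebius.eq_1 L d a, hd]
    congr 1
    symm
    refine Fintype.sum_equiv
      { toFun := fun z => ⟨s • z.1, L.le_smul s z.2.1, fun h => z.2.2 (smul_left_cancel s h)⟩
        invFun := fun z => ⟨s⁻¹ • z.1, by simpa using L.le_smul s⁻¹ z.2.1,
          fun h => z.2.2 ((congrArg (s • ·) h).trans (smul_inv_smul s _))⟩
        left_inv := fun z => Subtype.ext (inv_smul_smul s z.1)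
        right_inv := fun z => Subtype.ext (smul_inv_smul s z.1) } _ _ fun z => ?_
    refine (ih _ ?_ z.1 rfl).symm
    have h1 := L.card_lt_of_le z.2.1 z.2.2
    have h2 := Subgroup.card_le_card_group (L.grp z.1)
    omega

variable {p : ℕ} [Fact p.Prime]

omit [Fintype Z] in
/-- The index comparison behind the congruences. -/
theorem dvd_of_stab (hS : IsPGroup p S) {T B N : Subgroup S} (hTB : T ≤ B)
    (hN : ∀ b ∈ N ⊓ B, b ∈ B) {m : ℤ} (hm : (Nat.card B : ℤ) ∣ m * Nat.card T) :
    (Nat.card (N ⊓ B : Subgroup S) : ℤ) ∣ m * Nat.card (N ⊓ T : Subgroup S) := by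
  have hb := Subgroup.card_mul_index (T.subgroupOf B)
  rw [Nat.card_congr (Subgroup.subgroupOfEquivOfLe hTB).toEquiv] at hb
  set b := (T.subgroupOf B).index with hbdef
  have ha := Subgroup.card_mul_index (T.subgroupOf (N ⊓ B))
  have hsub : Nat.card (T.subgroupOf (N ⊓ B)) = Nat.card (N ⊓ T : Subgroup S) := by
    rw [← Subgroup.card_map_of_injective (N ⊓ B).subtype_injective, Subgroup.subgroupOf_map_subtype,
      show T ⊓ (N ⊓ B) = N ⊓ T by
        rw [inf_left_comm, ← inf_assoc, inf_right_comm, inf_assoc, inf_comm B, inf_of_le_left hTB]]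
  rw [hsub] at ha
  set a := (T.subgroupOf (N ⊓ B)).index with hadef
  have hle : a ≤ b := Subgroup.relIndex_le_of_le_right inf_le_right Subgroup.index_ne_zero_of_finite
  obtain ⟨i, hi⟩ := (hS.to_subgroup (N ⊓ B)).exists_card_eq
  obtain ⟨j, hj⟩ := (hS.to_subgroup B).exists_card_eq
  obtain ⟨i', -, hi'⟩ := (Nat.dvd_prime_pow (Fact.out : p.Prime)).1
    (hi ▸ Dvd.intro_left _ ha : a ∣ p ^ i)
  obtain ⟨j', -, hj'⟩ := (Nat.dvd_prime_pow (Fact.out : p.Prime)).1
    (hj ▸ Dvd.intro_left _ hb : b ∣ p ^ j)
  have hab : a ∣ b := by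
    rw [hi', hj'] at hle ⊢
    exact pow_dvd_pow p ((Nat.pow_le_pow_iff_right (Fact.out : p.Prime).one_lt).1 hle)
  have hbm : (b : ℤ) ∣ m := by
    rw [← hb, Nat.cast_mul, mul_comm m] at hm
    exact (mul_dvd_mul_iff_left (Int.natCast_ne_zero.2 Nat.card_pos.ne')).1 hm
  rw [← ha, Nat.cast_mul, mul_comm m]
  exact mul_dvd_mul_left _ ((Int.natCast_dvd_natCast.2 hab).trans hbm)

/-- **The congruences**: if they hold for `d` then the stabilizer order of every label divides
its number of exact points times the order of its subgroup. -/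
theorem card_stab_dvd [Fintype S] (hS : IsPGroup p S) (d : Z → ℤ)
    (hd : ∀ (s : S) z, d (s • z) = d z)
    (hcong : ∀ a : Z, (Nat.card (MulAction.stabilizer S a) : ℤ) ∣ ∑ n : MulAction.stabilizer S a,
      ∑ c ∈ Finset.univ.filter
        (fun c => L.grp c = L.grp a ⊔ Subgroup.zpowers (n : S) ∧ L.le a c), d c)
    (a : Z) :
    (Nat.card (MulAction.stabilizer S a) : ℤ) ∣ L.moebius d a * Nat.card (L.grp a) := by
  induction hn : Nat.card S - Nat.card (L.grp a) using Nat.strong_induction_on generalizing a with
  | _ k ih =>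
  set N := MulAction.stabilizer S a with hN
  have hTN : L.grp a ≤ N := fun t ht => L.fix a t ht
  have hsum : ∀ n : N, ∑ c ∈ Finset.univ.filter
      (fun c => L.grp c = L.grp a ⊔ Subgroup.zpowers (n : S) ∧ L.le a c), d c =
      ∑ z ∈ Finset.univ.filter (fun z => L.le a z), if (n : S) ∈ L.grp z then L.moebius d z else 0 := by
    intro n
    rw [← Finset.sum_filter, Finset.sum_congr rfl fun c _ => L.sum_moebius d c]
    rw [← Finset.sum_fiberwise_of_maps_to (s := (Finset.univ.filter fun z => L.le a z).filter
      fun z => (n : S) ∈ L.grp z)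
      (g := fun z => if h : L.le a z ∧ (n : S) ∈ L.grp z then
        Classical.choose (L.exists_below z (L.grp a ⊔ Subgroup.zpowers (n : S))
          (sup_le (L.grp_le h.1) (Subgroup.zpowers_le.2 h.2))) else a)
      (t := Finset.univ.filter
        (fun c => L.grp c = L.grp a ⊔ Subgroup.zpowers (n : S) ∧ L.le a c)) ?_]
    · refine Finset.sum_congr rfl fun c hc => Finset.sum_congr ?_ fun _ _ => rfl
      simp only [Finset.mem_filter, Finset.mem_univ, true_and] at hc
      ext z
      simp only [Finset.mem_filter, Finset.mem_univ, true_and]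
      constructor
      · intro hz
        have hz1 : L.le a z := L.trans hc.2 hz
        have hz2 : (n : S) ∈ L.grp z :=
          L.grp_le hz (hc.1 ▸ Subgroup.mem_sup_right (Subgroup.mem_zpowers _))
        refine ⟨⟨hz1, hz2⟩, ?_⟩
        rw [dif_pos ⟨hz1, hz2⟩]
        obtain ⟨h1, h2⟩ := Classical.choose_spec (L.exists_below z
          (L.grp a ⊔ Subgroup.zpowers (n : S)) (sup_le (L.grp_le hz1) (Subgroup.zpowers_le.2 hz2)))
        exact L.unique h1 hz (h2.trans hc.1.symm)
      · rintro ⟨hz, hzc⟩
        rw [dif_pos hz] at hzc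
        rw [← hzc]
        exact (Classical.choose_spec (L.exists_below z _
          (sup_le (L.grp_le hz.1) (Subgroup.zpowers_le.2 hz.2)))).1
    · intro z hz
      simp only [Finset.mem_filter, Finset.mem_univ, true_and] at hz ⊢
      rw [dif_pos hz]
      obtain ⟨h1, h2⟩ := Classical.choose_spec (L.exists_below z
        (L.grp a ⊔ Subgroup.zpowers (n : S)) (sup_le (L.grp_le hz.1) (Subgroup.zpowers_le.2 hz.2)))
      refine ⟨h2, ?_⟩
      obtain ⟨a', ha', hg'⟩ := L.exists_below _ (L.grp a)
        (le_sup_left.trans h2.ge : L.grp a ≤ L.grp (Classical.choose (L.exists_below z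
          (L.grp a ⊔ Subgroup.zpowers (n : S))
          (sup_le (L.grp_le hz.1) (Subgroup.zpowers_le.2 hz.2)))))
      exact L.unique (L.trans ha' h1) hz.1 hg' ▸ ha'
  have hcnt : ∀ z, ∑ n : N, (if (n : S) ∈ L.grp z then L.moebius d z else 0) =
      L.moebius d z * Nat.card (N ⊓ L.grp z : Subgroup S) := by
    intro z
    rw [← Finset.sum_filter, Finset.sum_const, nsmul_eq_mul, mul_comm]
    congr 1
    rw [← Fintype.card_subtype, ← Nat.card_eq_fintype_card]
    refine congrArg Nat.cast (Nat.card_congr
      { toFun := fun n => ⟨n.1.1, n.1.2, n.2⟩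
        invFun := fun n => ⟨⟨n.1, n.2.1⟩, n.2.2⟩
        left_inv := fun n => rfl
        right_inv := fun n => rfl })
  have h0 := hcong a
  rw [Finset.sum_congr rfl fun n _ => hsum n, Finset.sum_comm,
    Finset.sum_congr rfl fun z _ => hcnt z] at h0
  rw [← Finset.add_sum_erase _ _ (show a ∈ Finset.univ.filter (fun z => L.le a z) by
    simpa using L.refl a), inf_of_le_right hTN] at h0
  refine (Int.dvd_iff_dvd_of_dvd_sub ?_).1 h0
  rw [add_sub_cancel_left]
  -- the larger labels
  have hrest : ((Finset.univ.filter fun z => L.le a z).erase a) =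
      Finset.univ.filter fun z => L.le a z ∧ a ≠ z := by ext z; simp [and_comm, eq_comm]
  rw [hrest, Finset.sum_subtype _ (p := fun z => L.le a z ∧ a ≠ z) (by simp)]
  letI : MulAction N {z : Z // L.le a z ∧ a ≠ z} :=
    { smul := fun n z => ⟨(n : S) • z.1,
        by have := L.le_smul (n : S) z.2.1; rwa [show (n : S) • a = a from n.2] at this,
        fun h => z.2.2 (smul_left_cancel (n : S)
          ((show (n : S) • a = a from n.2).trans h))⟩
      one_smul := fun z => Subtype.ext (one_smul S z.1)
      mul_smul := fun m n z => Subtype.ext (mul_smul (m : S) (n : S) z.1) }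
  refine card_dvd_sum_of_stabilizer (A := N) _ (fun n z => ?_) fun z => ?_
  · show L.moebius d ((n : S) • z.1) * _ = _
    rw [L.moebius_smul d hd, show ((n • z : {z : Z // L.le a z ∧ a ≠ z}) : Z) = (n : S) • z.1 from rfl,
      L.grp_smul]
    congr 2
    have hmap : N.map (MulAut.conj (n : S)).toMonoidHom = N := by
      ext x
      rw [Subgroup.mem_map_equiv]
      constructor
      · intro hx
        have := N.mul_mem (N.mul_mem n.2 hx) (N.inv_mem n.2)
        simpa [mul_assoc] using this
      · intro hx
        have := N.mul_mem (N.mul_mem (N.inv_mem n.2) hx) n.2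
        simpa using this
    rw [show (N ⊓ (L.grp z.1).map (MulAut.conj (n : S)).toMonoidHom) =
        (N ⊓ L.grp z.1).map (MulAut.conj (n : S)).toMonoidHom by
      rw [Subgroup.map_inf _ _ _ (MulAut.conj (n : S)).injective, hmap]]
    exact Subgroup.card_map_of_injective (MulAut.conj (n : S)).injective
  · have hlt : Nat.card S - Nat.card (L.grp z.1) < k := by
      have h1 := L.card_lt_of_le z.2.1 z.2.2
      have h2 := Subgroup.card_le_card_group (L.grp z.1)
      omega
    have hIH := ih _ hlt z.1 rfl
    have hstab : Nat.card (MulAction.stabilizer N z) =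
        Nat.card (N ⊓ MulAction.stabilizer S z.1 : Subgroup S) := Nat.card_congr
      { toFun := fun m => ⟨m.1.1, m.1.2, congrArg Subtype.val m.2⟩
        invFun := fun m => ⟨⟨m.1, m.2.1⟩, Subtype.ext m.2.2⟩
        left_inv := fun m => rfl
        right_inv := fun m => rfl }
    rw [hstab]
    exact dvd_of_stab hS (fun t ht => L.fix z.1 t ht) (fun b hb => hb.2) hIH

/-- **The class function built from `d`** has integral products with the linear characters. -/
theorem exists_int_sum [Fintype S] (hS : IsPGroup p S) (d : Z → ℤ)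
    (hd : ∀ (s : S) z, d (s • z) = d z)
    (hcong : ∀ a : Z, (Nat.card (MulAction.stabilizer S a) : ℤ) ∣ ∑ n : MulAction.stabilizer S a,
      ∑ c ∈ Finset.univ.filter
        (fun c => L.grp c = L.grp a ⊔ Subgroup.zpowers (n : S) ∧ L.le a c), d c)
    (w : Z → S → ℂ) (hw1 : ∀ z, w z 1 = 1)
    (hwmul : ∀ z, ∀ x ∈ L.grp z, ∀ y ∈ L.grp z, w z (x * y) = w z x * w z y)
    (hwres : ∀ {a z}, L.le a z → ∀ t ∈ L.grp a, w a t = w z t)
    (hwconj : ∀ (s : S) z, ∀ t ∈ L.grp z, w (s • z) (s * t * s⁻¹) = w z t)
    (η : S →* ℂ) :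
    ∃ k : ℤ, ∑ s : S, η s * ∑ c ∈ Finset.univ.filter (fun c => L.grp c = Subgroup.zpowers s),
      (d c : ℂ) * w c s = (Nat.card S : ℂ) * k := by
  let χ : (z : Z) → L.grp z →* ℂ := fun z =>
    { toFun := fun t => η t * w z t
      map_one' := by rw [OneMemClass.coe_one, map_one, hw1, one_mul]
      map_mul' := fun x y => by
        simp only [Subgroup.coe_mul, map_mul, hwmul z x x.2 y y.2]
        ring }
  have hex : ∀ z, ∃ k : ℤ, ∑ t : L.grp z, χ z t = (Nat.card (L.grp z) : ℂ) * k :=
    fun z => exists_int_sum_hom _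
  choose k hk using hex
  have hkinv : ∀ (s : S) z, k (s • z) = k z := by
    intro s z
    have he : L.grp (s • z) = (L.grp z).map (MulAut.conj s).toMonoidHom := L.grp_smul s z
    have hcard : Nat.card (L.grp (s • z)) = Nat.card (L.grp z) := by
      rw [he]; exact Subgroup.card_map_of_injective (MulAut.conj s).injective
    have hsum : ∑ t : L.grp (s • z), χ (s • z) t = ∑ t : L.grp z, χ z t := by
      refine (Fintype.sum_equiv ((L.grp z).equivMapOfInjective _ (MulAut.conj s).injective
        |>.toEquiv.trans (Equiv.setCongr (congrArg SetLike.coe he.symm))) _ _ fun t => ?_).symm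
      show η t * w z t = η (s * t * s⁻¹) * w (s • z) (s * t * s⁻¹)
      rw [hwconj s z t t.2, map_mul, map_mul, mul_right_comm (η s), ← map_mul, mul_inv_cancel,
        map_one, one_mul]
    rw [hk, hk, hcard] at hsum
    exact_mod_cast mul_left_cancel₀ (Nat.cast_ne_zero.2 Nat.card_pos.ne') hsum
  obtain ⟨m, hm⟩ : (Nat.card S : ℤ) ∣ ∑ z : Z, L.moebius d z * Nat.card (L.grp z) * k z := by
    refine card_dvd_sum_of_stabilizer _ (fun s z => ?_) fun z => ?_
    · rw [L.moebius_smul d hd, hkinv, L.grp_smul]
      congr 3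
      exact Subgroup.card_map_of_injective (MulAut.conj s).injective
    · exact (L.card_stab_dvd hS d hd hcong z).mul_right _
  refine ⟨m, ?_⟩
  rw [← Int.cast_natCast (Nat.card S), ← Int.cast_mul, ← hm, Int.cast_sum]
  have hterm : ∀ s : S, η s * ∑ c ∈ Finset.univ.filter (fun c => L.grp c = Subgroup.zpowers s),
      (d c : ℂ) * w c s = ∑ z : Z, if s ∈ L.grp z then (L.moebius d z : ℂ) * (η s * w z s) else 0 := by
    intro s
    rw [← Finset.sum_filter, Finset.mul_sum]
    simp only [L.sum_moebius d, Int.cast_sum, Finset.sum_mul, Finset.mul_sum]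
    rw [Finset.sum_sigma']
    refine Finset.sum_bij (fun x _ => x.2) ?_ ?_ ?_ ?_
    · intro x hx
      simp only [Finset.mem_sigma, Finset.mem_filter, Finset.mem_univ, true_and] at hx ⊢
      exact L.grp_le hx.2 (hx.1 ▸ Subgroup.mem_zpowers s)
    · intro x hx y hy hxy
      simp only [Finset.mem_sigma, Finset.mem_filter, Finset.mem_univ, true_and] at hx hy
      obtain ⟨c, z⟩ := x
      obtain ⟨c', z'⟩ := y
      simp only at hxy hx hy
      subst hxy
      rw [L.unique hx.2 hy.2 (hx.1.trans hy.1.symm)]
    · intro z hz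
      simp only [Finset.mem_filter, Finset.mem_univ, true_and] at hz
      obtain ⟨c, hc, hgc⟩ := L.exists_below z _ (Subgroup.zpowers_le.2 hz)
      exact ⟨⟨c, z⟩, by simp [hc, hgc], rfl⟩
    · intro x hx
      simp only [Finset.mem_sigma, Finset.mem_filter, Finset.mem_univ, true_and] at hx
      rw [hwres hx.2 s (hx.1 ▸ Subgroup.mem_zpowers s)]
      ring
  rw [Finset.sum_congr rfl fun s _ => hterm s, Finset.sum_comm]
  refine Finset.sum_congr rfl fun z _ => ?_
  push_cast
  rw [mul_assoc, ← hk z, Finset.mul_sum,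
    ← Finset.sum_filter, Finset.sum_subtype _ (p := fun s => s ∈ L.grp z) (by simp)]
  exact Finset.sum_congr rfl fun t _ => rfl

end LabelSet

end CfsgLib.StarAction
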