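import Cfsg.Agent.Lib.Blocks.Pairs.FusionSystem
import Cfsg.Agent.Lib.Blk83.PairFusion
import Mathlib.Analysis.Complex.Basic
import Mathlib.Analysis.Complex.Polynomial.Basic

/-!
# The weight of a Brauer pair under a linear character of the defect group

For a linear character of `P` which is constant on the classes of the fusion system of `(P, e)`,
every pair of the block gets the linear character transported by any conjugation below `(P, e)`.
-/

set_option autoImplicit false

namespace CfsgLib.StarAction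

open CfsgLib.Blocks CfsgLib.Blocks.Pairs
open scoped Classical ComplexConjugate

universe u v

variable {F : Type v} [Field F] {G : Type u} [Group G] [Finite G] {p : ℕ}

/-- The linear character `lam` is constant on the classes of the fusion system of `(P, e)`. -/
def IsTwist (p : ℕ) (P : Subgroup G) (e : MonoidAlgebra F G) (lam : P →* ℂˣ) : Prop :=
  ∀ (Q : Subgroup G) (f : MonoidAlgebra F G) (g : G), SLE p Q f P e →
    SLE p (conjSub g Q) (conjA g f) P e →
      ∀ a b : P, (a : G) ∈ Q → (b : G) = g * a * g⁻¹ → lam b = lam a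

theorem isTwist_one (P : Subgroup G) (e : MonoidAlgebra F G) :
    IsTwist p P e (1 : P →* ℂˣ) :=
  fun _ _ _ _ _ _ _ _ _ => rfl

theorem IsTwist.mul {P : Subgroup G} {e : MonoidAlgebra F G} {lam lam' : P →* ℂˣ}
    (h : IsTwist p P e lam) (h' : IsTwist p P e lam') : IsTwist p P e (lam * lam') :=
  fun Q f g h1 h2 a b ha hb => by
    rw [MonoidHom.mul_apply, MonoidHom.mul_apply, h Q f g h1 h2 a b ha hb,
      h' Q f g h1 h2 a b ha hb]

/-- The weight of the element `u` of the pair `(Q, f)`. -/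
noncomputable def wt (p : ℕ) (P : Subgroup G) (e : MonoidAlgebra F G) (lam : P →* ℂˣ)
    (Q : Subgroup G) (f : MonoidAlgebra F G) (u : G) : ℂ :=
  if h : ∃ x : G, SLE p (conjSub x Q) (conjA x f) P e then
    (if hu : Classical.choose h * u * (Classical.choose h)⁻¹ ∈ P then (lam ⟨_, hu⟩ : ℂ) else 1)
  else 1

variable {P : Subgroup G} {e : MonoidAlgebra F G} {lam lam' : P →* ℂˣ}

omit [Finite G] in
theorem conj_mem_conjSub {x u : G} {Q : Subgroup G} (hu : u ∈ Q) : x * u * x⁻¹ ∈ conjSub x Q :=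
  mem_conjSub.2 (by simpa [mul_assoc] using hu)

theorem wt_eq (tw : IsTwist p P e lam) {Q : Subgroup G} {f : MonoidAlgebra F G} {x : G}
    (hx : SLE p (conjSub x Q) (conjA x f) P e) {u : G} (hu : u ∈ Q) :
    wt p P e lam Q f u = (lam ⟨x * u * x⁻¹, hx.le (conj_mem_conjSub hu)⟩ : ℂ) := by
  have h : ∃ x : G, SLE p (conjSub x Q) (conjA x f) P e := ⟨x, hx⟩
  rw [wt, dif_pos h]
  set y := Classical.choose h with hy
  have hy' : SLE p (conjSub y Q) (conjA y f) P e := Classical.choose_spec h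
  rw [dif_pos (hy'.le (conj_mem_conjSub hu))]
  refine congrArg Units.val (tw (conjSub y Q) (conjA y f) (x * y⁻¹) hy' ?_ ⟨_, _⟩ ⟨_, _⟩
    (conj_mem_conjSub hu) ?_).symm
  · rwa [conjSub_conjSub, conjA_conjA, inv_mul_cancel_right]
  · show x * u * x⁻¹ = x * y⁻¹ * (y * u * y⁻¹) * (x * y⁻¹)⁻¹
    group

omit [Finite G] in
theorem wt_of_none [Finite G] {Q : Subgroup G} {f : MonoidAlgebra F G}
    (h : ¬ ∃ x : G, SLE p (conjSub x Q) (conjA x f) P e) (u : G) :
    wt p P e lam Q f u = 1 := by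
  rw [wt, dif_neg h]

theorem wt_apply_one (Q : Subgroup G) (f : MonoidAlgebra F G) : wt p P e lam Q f 1 = 1 := by
  rw [wt]
  split_ifs with h hu
  · have : (⟨Classical.choose h * 1 * (Classical.choose h)⁻¹, hu⟩ : P) = 1 :=
      Subtype.ext (by simp)
    rw [this, map_one, Units.val_one]
  · rfl
  · rfl

theorem wt_mul (tw : IsTwist p P e lam) {Q : Subgroup G} {f : MonoidAlgebra F G} {u v : G}
    (hu : u ∈ Q) (hv : v ∈ Q) :
    wt p P e lam Q f (u * v) = wt p P e lam Q f u * wt p P e lam Q f v := by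
  by_cases h : ∃ x : G, SLE p (conjSub x Q) (conjA x f) P e
  · obtain ⟨x, hx⟩ := h
    rw [wt_eq tw hx (Q.mul_mem hu hv), wt_eq tw hx hu, wt_eq tw hx hv, ← Units.val_mul, ← map_mul]
    refine congrArg (fun a : P => (lam a : ℂ)) (Subtype.ext ?_)
    show x * (u * v) * x⁻¹ = x * u * x⁻¹ * (x * v * x⁻¹)
    group
  · rw [wt_of_none h, wt_of_none h, wt_of_none h, one_mul]

theorem exists_witness_conj (y : G) (Q : Subgroup G) (f : MonoidAlgebra F G) :
    (∃ x : G, SLE p (conjSub x (conjSub y Q)) (conjA x (conjA y f)) P e) ↔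
      ∃ x : G, SLE p (conjSub x Q) (conjA x f) P e := by
  constructor
  · rintro ⟨x, hx⟩
    exact ⟨x * y, by rwa [← conjSub_conjSub, ← conjA_conjA]⟩
  · rintro ⟨x, hx⟩
    exact ⟨x * y⁻¹, by rwa [conjSub_conjSub, conjA_conjA, inv_mul_cancel_right]⟩

theorem wt_conj (tw : IsTwist p P e lam) (y : G) {Q : Subgroup G} {f : MonoidAlgebra F G} {u : G}
    (hu : u ∈ Q) :
    wt p P e lam (conjSub y Q) (conjA y f) (y * u * y⁻¹) = wt p P e lam Q f u := by
  by_cases h : ∃ x : G, SLE p (conjSub x Q) (conjA x f) P e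
  · obtain ⟨x, hx⟩ := h
    have hx' : SLE p (conjSub (x * y⁻¹) (conjSub y Q)) (conjA (x * y⁻¹) (conjA y f)) P e := by
      rwa [conjSub_conjSub, conjA_conjA, inv_mul_cancel_right]
    rw [wt_eq tw hx hu, wt_eq tw hx' (conj_mem_conjSub hu)]
    refine congrArg (fun a : P => (lam a : ℂ)) (Subtype.ext ?_)
    show x * y⁻¹ * (y * u * y⁻¹) * (x * y⁻¹)⁻¹ = x * u * x⁻¹
    group
  · rw [wt_of_none h, wt_of_none fun h' => h ((exists_witness_conj y Q f).1 h')]

theorem wt_mul_lam (Q : Subgroup G) (f : MonoidAlgebra F G) (u : G) :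
    wt p P e (lam * lam') Q f u = wt p P e lam Q f u * wt p P e lam' Q f u := by
  simp only [wt]
  split_ifs with h hu
  · rw [MonoidHom.mul_apply, Units.val_mul]
  · rw [one_mul]
  · rw [one_mul]

theorem wt_trivial (Q : Subgroup G) (f : MonoidAlgebra F G) (u : G) :
    wt p P e (1 : P →* ℂˣ) Q f u = 1 := by
  simp only [wt]
  split_ifs <;> simp

theorem conj_mul_wt (Q : Subgroup G) (f : MonoidAlgebra F G) (u : G) :
    conj (wt p P e lam Q f u) * wt p P e lam Q f u = 1 := by
  have key : ∀ a : P, conj (lam a : ℂ) * (lam a : ℂ) = 1 := by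
    intro a
    have hn : ‖(lam a : ℂ)‖ = 1 := by
      refine Complex.norm_eq_one_of_pow_eq_one (n := orderOf a) ?_ (orderOf_pos a).ne'
      rw [← Units.val_pow_eq_pow_val, ← map_pow, pow_orderOf_eq_one, map_one, Units.val_one]
    rw [← Complex.inv_eq_conj hn, inv_mul_cancel₀ (Units.ne_zero _)]
  simp only [wt]
  split_ifs with h hu
  · exact key _
  · rw [map_one, one_mul]
  · rw [map_one, one_mul]

theorem wt_ne_zero (Q : Subgroup G) (f : MonoidAlgebra F G) (u : G) :
    wt p P e lam Q f u ≠ 0 := fun h => by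
  have := conj_mul_wt (p := p) (P := P) (e := e) (lam := lam) Q f u
  rw [h, mul_zero] at this
  exact zero_ne_one this

variable [Fact p.Prime] [CharP F p]

theorem pairOf_of_witness {B f : MonoidAlgebra F G} {Q : Subgroup G} (hP : PairOf p B P e) {x : G}
    (hx : SLE p (conjSub x Q) (conjA x f) P e) : PairOf p B Q f := by
  have h1 := ((SLE.pairOf_iff hx).1 hP).conj x⁻¹
  rwa [conjSub_conjSub, conjA_conjA, inv_mul_cancel, conjSub_one, conjA_one] at h1

/-- The weight restricts along inclusions of pairs. -/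
theorem wt_res {B f g : MonoidAlgebra F G} {Q R : Subgroup G} (hP : PairOf p B P e)
    (hno : NoExt p P e) (tw : IsTwist p P e lam) (hle : SLE p Q f R g) {u : G} (hu : u ∈ Q) :
    wt p P e lam Q f u = wt p P e lam R g u := by
  by_cases h : ∃ x : G, SLE p (conjSub x R) (conjA x g) P e
  · obtain ⟨x, hx⟩ := h
    rw [wt_eq tw hx (hle.le hu), wt_eq tw ((hle.conj x).trans hx) hu]
  · rw [wt_of_none h, wt_of_none]
    rintro ⟨x, hx⟩
    exact h (exists_conj_sle hP hno ((SLE.pairOf_iff hle).2 (pairOf_of_witness hP hx)))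

end CfsgLib.StarAction
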