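import Cfsg.Agent.Lib.StarAction.BrauerMatrix
import Cfsg.Agent.Lib.StarAction.Marks
import Cfsg.Agent.Lib.StarAction.Weights

/-!
# Brauer pairs as labels for a `p`-group acting on both sides

A `p`-group `S` acts on `G` by `s • x = q s * x * (r s)⁻¹`.  Its labels are the Brauer pairs on
the images of its subgroups under `q`; the count of a label is the rank of the fixed-point block
of a commuting idempotent times the left multiplication by the block.
-/

set_option autoImplicit false
set_option maxHeartbeats 800000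

namespace CfsgLib.StarAction

open Cfsg CfsgLib.Blocks CfsgLib.Blocks.Pairs Matrix
open scoped Classical

universe u v

/-- Left multiplication on the group algebra, as a matrix. -/
noncomputable def lmat {R : Type*} [CommRing R] {G : Type u} [Group G] (a : MonoidAlgebra R G) :
    Matrix G G R :=
  Matrix.of fun x y => a.coeff (x * y⁻¹)

theorem lmat_apply {R : Type*} [CommRing R] {G : Type u} [Group G] (a : MonoidAlgebra R G)
    (x y : G) : lmat a x y = a.coeff (x * y⁻¹) := rfl

theorem lmat_mul {R : Type*} [CommRing R] {G : Type u} [Group G] [Fintype G]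
    (a b : MonoidAlgebra R G) : lmat a * lmat b = lmat (a * b) := by
  ext x y
  rw [Matrix.mul_apply, lmat_apply, coeff_mul_group]
  refine Fintype.sum_equiv ((Equiv.inv G).trans (Equiv.mulLeft x)) _ _ fun z => ?_
  simp only [lmat_apply, Equiv.trans_apply, Equiv.inv_apply, Equiv.coe_mulLeft]
  congr 2
  group

theorem lmat_zero {R : Type*} [CommRing R] {G : Type u} [Group G] :
    lmat (0 : MonoidAlgebra R G) = 0 := by
  ext x y; simp [lmat_apply]

theorem lmat_sum {R : Type*} [CommRing R] {G : Type u} [Group G] {ι : Type*} (s : Finset ι)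
    (a : ι → MonoidAlgebra R G) : lmat (∑ i ∈ s, a i) = ∑ i ∈ s, lmat (a i) := by
  ext x y
  simp [lmat_apply, Matrix.sum_apply, MonoidAlgebra.coeff_sum, Finsupp.finsetSum_apply]

variable {F : Type v} [Field F] {G : Type u} [Group G] [Fintype G] {S : Type u} [Group S]
  {p : ℕ}

theorem map_map_conj (q : S →* G) (s : S) (T : Subgroup S) :
    (T.map (MulAut.conj s).toMonoidHom).map q = conjSub (q s) (T.map q) := by
  rw [Subgroup.map_map, conjSub, Subgroup.map_map]
  congr 1
  ext t
  simp

/-- The Brauer pairs on the images of the subgroups of `S`. -/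
structure PairLabel (p : ℕ) (q : S →* G) (F : Type v) [Field F] where
  /-- The subgroup. -/
  grp : Subgroup S
  /-- The block idempotent. -/
  idem : MonoidAlgebra F G
  pair : IsPair p (grp.map q) idem

variable {q : S →* G}

theorem pairLabel_ext {a b : PairLabel p q F} (h1 : a.grp = b.grp) (h2 : a.idem = b.idem) :
    a = b := by
  cases a; cases b; subst h1; subst h2; rfl

theorem finite_pairLabel [Finite S] : Finite (PairLabel p q F) := by
  refine Finite.of_injective
    (β := Σ T : Subgroup S, {g // g ∈ blks (F := F) (Subgroup.centralizer (T.map q : Set G))})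
    (fun z => ⟨z.grp, ⟨z.idem, mem_blks.2 z.pair.block⟩⟩) fun a b h => ?_
  obtain ⟨T, g, hg⟩ := a
  obtain ⟨T', g', hg'⟩ := b
  simp only [Sigma.mk.injEq] at h
  obtain ⟨rfl, h2⟩ := h
  have := congrArg Subtype.val (eq_of_heq h2)
  exact pairLabel_ext rfl this

/-- Conjugation of labels. -/
noncomputable instance instMulActionPairLabel : MulAction S (PairLabel p q F) where
  smul s z := ⟨z.grp.map (MulAut.conj s).toMonoidHom, conjA (q s) z.idem,
    by rw [map_map_conj]; exact z.pair.conj (q s)⟩
  one_smul z := by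
    refine pairLabel_ext ?_ ?_
    · show z.grp.map (MulAut.conj (1 : S)).toMonoidHom = z.grp
      rw [map_one]; exact Subgroup.map_id _
    · show conjA (q 1) z.idem = z.idem
      rw [map_one, conjA_one]
  mul_smul s t z := by
    refine pairLabel_ext ?_ ?_
    · show z.grp.map (MulAut.conj (s * t)).toMonoidHom =
        (z.grp.map (MulAut.conj t).toMonoidHom).map (MulAut.conj s).toMonoidHom
      rw [Subgroup.map_map]
      congr 1
      ext x
      simp [mul_assoc]
    · show conjA (q (s * t)) z.idem = conjA (q s) (conjA (q t) z.idem)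
      rw [map_mul, conjA_conjA]

theorem smul_grp (s : S) (z : PairLabel p q F) :
    (s • z).grp = z.grp.map (MulAut.conj s).toMonoidHom := rfl

theorem smul_idem (s : S) (z : PairLabel p q F) : (s • z).idem = conjA (q s) z.idem := rfl

variable [Fact p.Prime] [CharP F p]

/-- The labels ordered by inclusion of pairs. -/
def pairLabelSet (p : ℕ) [Fact p.Prime] (q : S →* G) (F : Type v) [Field F] [CharP F p] :
    LabelSet S (PairLabel p q F) where
  grp := PairLabel.grp
  le a z := a.grp ≤ z.grp ∧ SLE p (a.grp.map q) a.idem (z.grp.map q) z.idem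
  refl z := ⟨le_rfl, SLE.refl _ _⟩
  trans := fun h h' => ⟨h.1.trans h'.1, h.2.trans h'.2⟩
  grp_le := fun h => h.1
  exists_below z U hU := by
    obtain ⟨f, hf⟩ := (existsUnique_sle z.pair (Subgroup.map_mono (f := q) hU)).1
    exact ⟨⟨U, f, hf.pair_left z.pair⟩, ⟨hU, hf⟩, rfl⟩
  unique := by
    intro z a b ha hb he
    refine pairLabel_ext he ?_
    have h1 := ha.2
    rw [he] at h1
    exact SLE.unique z.pair h1 hb.2
  grp_smul _ _ := rfl
  le_smul := fun s {a b} h => ⟨Subgroup.map_mono h.1, by
    rw [smul_grp, smul_grp, map_map_conj, map_map_conj]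
    exact h.2.conj (q s)⟩
  fix z t ht := by
    refine pairLabel_ext ?_ ?_
    · exact conjSub_eq_of_mem_normalizer (Subgroup.le_normalizer ht)
    · exact conjFixed_iff.mp (suppIn_centralizer_conjFixed z.pair.block.mem.supp) (q t)
        ⟨t, ht, rfl⟩

variable [MulAction S G] {r : S →* G}

omit [Fact p.Prime] [CharP F p] in
theorem lmat_equivariant (hact : ∀ (s : S) (x : G), s • x = q s * x * (r s)⁻¹) {T : Subgroup S}
    {a : MonoidAlgebra F G} (ha : ConjFixed (T.map q) a) (t : T) (x y : G) :
    lmat a (t • x) (t • y) = lmat a x y := by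
  show a.coeff (((t : S) • x) * ((t : S) • y)⁻¹) = a.coeff (x * y⁻¹)
  rw [hact, hact, ← ha (q t) ⟨t, t.2, rfl⟩ (x * y⁻¹)]
  congr 1
  group

omit [Fact p.Prime] [CharP F p] in
theorem mask_lmat (hact : ∀ (s : S) (x : G), s • x = q s * x * (r s)⁻¹) (T : Subgroup S)
    (a : MonoidAlgebra F G) :
    mask (MulAction.fixedPoints T G) (lmat a) =
      mask (MulAction.fixedPoints T G) (lmat (trunc (T.map q) a)) := by
  ext x y
  simp only [mask_apply, lmat_apply, coeff_trunc]
  by_cases h : x ∈ MulAction.fixedPoints T G ∧ y ∈ MulAction.fixedPoints T G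
  · rw [if_pos h, if_pos h, if_pos]
    rw [Subgroup.mem_centralizer_iff]
    rintro _ ⟨t, ht, rfl⟩
    have hx : (t : S) • x = x := h.1 ⟨t, ht⟩
    have hy : (t : S) • y = y := h.2 ⟨t, ht⟩
    rw [hact] at hx hy
    calc q t * (x * y⁻¹) = q t * x * (r t)⁻¹ * (q t * y * (r t)⁻¹)⁻¹ * q t := by group
      _ = x * y⁻¹ * q t := by rw [hx, hy]
  · rw [if_neg h, if_neg h]

/-- The count of a label. -/
noncomputable def labelRank (π : Matrix G G F) (eB : MonoidAlgebra F G) (z : PairLabel p q F) : ℤ :=
  ((mask (MulAction.fixedPoints z.grp G) (π * lmat (z.idem * eB))).rank : ℤ)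

/-- The hypotheses on the idempotent factor. -/
structure IsSection (p : ℕ) (q : S →* G) (π : Matrix G G F) (eB : MonoidAlgebra F G) : Prop where
  idem : π * π = π
  equivariant : ∀ (s : S) (x y : G), π (s • x) (s • y) = π x y
  comm : ∀ z : PairLabel p q F, Commute π (lmat (z.idem * eB))
  central : InCenter (⊤ : Subgroup G) eB
  eB_idem : eB * eB = eB

variable {π : Matrix G G F} {eB : MonoidAlgebra F G}

theorem conjFixed_idem_mul (he : IsSection p q π eB) {T : Subgroup S} {g : MonoidAlgebra F G}
    (hg : ConjFixed (T.map q) g) : ConjFixed (T.map q) (g * eB) :=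
  conjFixed_mul hg (he.central.fixed.mono le_top)

theorem idem_mul_sq (he : IsSection p q π eB) (z : PairLabel p q F) :
    (π * lmat (z.idem * eB)) * (π * lmat (z.idem * eB)) = π * lmat (z.idem * eB) := by
  calc (π * lmat (z.idem * eB)) * (π * lmat (z.idem * eB))
      = π * (lmat (z.idem * eB) * π) * lmat (z.idem * eB) := by simp only [Matrix.mul_assoc]
    _ = π * π * (lmat (z.idem * eB) * lmat (z.idem * eB)) := by
        rw [← (he.comm z).eq]; simp only [Matrix.mul_assoc]
    _ = π * lmat (z.idem * eB) := by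
        rw [he.idem, lmat_mul, mul_assoc z.idem, ← mul_assoc eB,
          ← mul_comm_of_suppIn (H := (⊤ : Subgroup G)) (fun x hx => absurd (Subgroup.mem_top x) hx)
            he.central.fixed (a := z.idem), mul_assoc z.idem eB eB, he.eB_idem, ← mul_assoc,
          z.pair.block.idem]

theorem labelRank_smul (hact : ∀ (s : S) (x : G), s • x = q s * x * (r s)⁻¹)
    (he : IsSection p q π eB) (s : S) (z : PairLabel p q F) :
    labelRank π eB (s • z) = labelRank π eB z := by
  unfold labelRank
  congr 1
  rw [← Matrix.rank_submatrix _ (MulAction.toPerm s : Equiv.Perm G) (MulAction.toPerm s)]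
  congr 1
  ext x y
  simp only [Matrix.submatrix_apply, MulAction.toPerm_apply, mask_apply]
  have hfix : ∀ w : G, s • w ∈ MulAction.fixedPoints (s • z).grp G ↔
      w ∈ MulAction.fixedPoints z.grp G := by
    intro w
    constructor
    · intro h t
      have := h ⟨s * t * s⁻¹, ⟨t, t.2, rfl⟩⟩
      change (s * (t : S) * s⁻¹) • s • w = s • w at this
      rw [smul_smul, inv_mul_cancel_right, mul_smul] at this
      exact smul_left_cancel s this
    · rintro h ⟨_, t, ht, rfl⟩
      show (s * t * s⁻¹) • s • w = s • w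
      rw [smul_smul, inv_mul_cancel_right, mul_smul]
      exact congrArg (s • ·) (h ⟨t, ht⟩)
  rw [hfix, hfix, Matrix.mul_apply, Matrix.mul_apply,
    ← Equiv.sum_comp (MulAction.toPerm s : Equiv.Perm G)]
  congr 1
  refine Finset.sum_congr rfl fun w _ => ?_
  rw [MulAction.toPerm_apply, he.equivariant, smul_idem, lmat_apply, lmat_apply, hact, hact,
    show conjA (q s) z.idem * eB = conjA (q s) (z.idem * eB) by
      rw [conjA_mul, he.central.conjA_eq], coeff_conjA]
  congr 2
  group

section Congr

omit [Fact p.Prime] [CharP F p] in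
theorem fixedPoints_sup (U : Subgroup S) (n : S) :
    MulAction.fixedPoints ↥(U ⊔ Subgroup.zpowers n) G =
      MulAction.fixedPoints U G ∩ {x | n • x = x} := by
  ext x
  constructor
  · intro h
    exact ⟨fun u => h ⟨u, Subgroup.mem_sup_left u.2⟩,
      h ⟨n, Subgroup.mem_sup_right (Subgroup.mem_zpowers n)⟩⟩
  · rintro ⟨h1, h2⟩ v
    have : U ⊔ Subgroup.zpowers n ≤ MulAction.stabilizer S x :=
      sup_le (fun u hu => h1 ⟨u, hu⟩) (Subgroup.zpowers_le.2 h2)
    exact this v.2

/-- The count of a label, cut down to a larger group normalizing it, is the sum of the counts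
of the labels above it. -/
theorem rank_mask_eq_sum [Fintype (PairLabel p q F)] (hS : IsPGroup p S)
    (hact : ∀ (s : S) (x : G), s • x = q s * x * (r s)⁻¹) (he : IsSection p q π eB)
    (a : PairLabel p q F) {V : Subgroup S} (hV : V ≤ MulAction.stabilizer S a) (hUV : a.grp ≤ V) :
    ((mask (MulAction.fixedPoints V G) (π * lmat (a.idem * eB))).rank : ℤ) =
      ∑ c ∈ Finset.univ.filter
        (fun c : PairLabel p q F => c.grp = V ∧ (pairLabelSet p q F).le a c), labelRank π eB c := by
  have hVp : IsPGroup p V := hS.to_subgroup V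
  have hqV : IsPGroup p (V.map q) := hVp.map q
  have hbfix : ConjFixed (V.map q) a.idem := by
    rw [conjFixed_iff]
    rintro _ ⟨v, hv, rfl⟩
    exact congrArg PairLabel.idem (show v • a = a from hV hv)
  have hnorm : V.map q ≤ Subgroup.normalizer ((a.grp.map q : Subgroup G) : Set G) := by
    rintro _ ⟨v, hv, rfl⟩
    have h1 : conjSub (q v) (a.grp.map q) = a.grp.map q := by
      rw [← map_map_conj]
      exact congrArg (fun z : PairLabel p q F => z.grp.map q) (show v • a = a from hV hv)
    rw [Subgroup.mem_normalizer_iff]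
    intro g
    conv_rhs => rw [← h1, mem_conjSub]
    simp [mul_assoc]
  set Φ := MulAction.fixedPoints V G with hΦ
  set CV := Subgroup.centralizer ((V.map q : Subgroup G) : Set G) with hCV
  obtain ⟨htc, hti⟩ := trunc_idem hqV (Subgroup.map_mono (f := q) hUV) a.pair.block.mem hbfix
    a.pair.block.idem
  have hsel : ∀ g ∈ blks (F := F) CV,
      trunc (V.map q) a.idem * g = g ∨ trunc (V.map q) a.idem * g = 0 :=
    fun g hg => (mem_blks.1 hg).prim _ htc hti
  set sel := (blks (F := F) CV).filter (fun g => trunc (V.map q) a.idem * g = g) with hseldef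
  have htr : trunc (V.map q) a.idem = ∑ g ∈ sel, g := by
    conv_lhs => rw [← mul_one (trunc (V.map q) a.idem), ← sum_blks (F := F) CV, Finset.mul_sum]
    rw [hseldef, Finset.sum_filter]
    refine Finset.sum_congr rfl fun g hg => ?_
    split_ifs with h
    · exact h
    · exact (hsel g hg).resolve_left h
  have heq : ∀ (b : MonoidAlgebra F G), ConjFixed (V.map q) b →
      mask Φ (π * lmat b) = mask Φ π * mask Φ (lmat b) := fun b hb =>
    mask_mul hVp (fun v => he.equivariant (v : S)) (lmat_equivariant hact hb)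
  have hgfix : ∀ g ∈ blks (F := F) CV, ConjFixed (V.map q) g := fun g hg =>
    suppIn_centralizer_conjFixed (mem_blks.1 hg).mem.supp
  have hdecomp : mask Φ (π * lmat (a.idem * eB)) = ∑ g ∈ sel, mask Φ (π * lmat (g * eB)) := by
    have hBfix : ConjFixed (V.map q) eB := he.central.fixed.mono le_top
    rw [heq _ (conjFixed_mul hbfix hBfix), hΦ, mask_lmat hact V, trunc_mul hqV hbfix hBfix, htr,
      Finset.sum_mul, lmat_sum, mask_sum, Finset.mul_sum]
    refine Finset.sum_congr rfl fun g hg => ?_
    have hg' := (Finset.mem_filter.1 hg).1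
    rw [← hΦ, heq _ (conjFixed_mul (hgfix g hg') hBfix), hΦ, mask_lmat hact V (g * eB),
      trunc_mul hqV (hgfix g hg') hBfix, trunc_eq_self (mem_blks.1 hg').mem.supp]
  let mk : ∀ g ∈ blks (F := F) CV, PairLabel p q F := fun g hg => ⟨V, g, hqV, mem_blks.1 hg⟩
  rw [hdecomp, rank_sum_idem, Nat.cast_sum]
  · refine Finset.sum_bij (fun g hg => mk g (Finset.mem_filter.1 hg).1) ?_ ?_ ?_ ?_
    · intro g hg
      obtain ⟨hg1, hg2⟩ := Finset.mem_filter.1 hg
      simp only [Finset.mem_filter, Finset.mem_univ, true_and]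
      exact ⟨rfl, hUV, NS.sle ⟨a.pair, (mk g hg1).pair, Subgroup.map_mono hUV, hnorm, hbfix, hg2⟩⟩
    · intro g hg g' hg' h
      exact congrArg PairLabel.idem h
    · intro c hc
      simp only [Finset.mem_filter, Finset.mem_univ, true_and] at hc
      obtain ⟨hcV, hle⟩ := hc
      obtain ⟨T, g, hpair⟩ := c
      change T = V at hcV
      subst hcV
      refine ⟨g, Finset.mem_filter.2 ⟨mem_blks.2 hpair.block, ?_⟩, rfl⟩
      obtain ⟨f, hf⟩ := exists_ns hpair (Subgroup.map_mono (f := q) hUV) hnorm
      obtain rfl := SLE.unique hpair hle.2 hf.sle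
      exact hf.br
    · intro g hg
      rfl
  · intro g hg
    have hg' := (Finset.mem_filter.1 hg).1
    have h := idem_mul_sq he (mk g hg')
    rw [← mask_mul hVp ?_ ?_, h]
    all_goals
      intro v x y
      rw [Matrix.mul_apply, Matrix.mul_apply, ← Equiv.sum_comp (MulAction.toPerm v : Equiv.Perm G)]
      exact Finset.sum_congr rfl fun w _ => by
        rw [MulAction.toPerm_apply]
        exact congrArg₂ (· * ·) (he.equivariant (v : S) x w)
          (lmat_equivariant hact (conjFixed_idem_mul he (hgfix g hg')) v w y)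
  · intro g hg g' hg' hne
    have hg1 := (Finset.mem_filter.1 hg).1
    have hg1' := (Finset.mem_filter.1 hg').1
    have hBfix : ConjFixed (V.map q) eB := he.central.fixed.mono le_top
    have hz : lmat (g * eB) * lmat (g' * eB) = 0 := by
      rw [lmat_mul, mul_assoc g, ← mul_assoc eB,
        ← mul_comm_of_suppIn (H := (⊤ : Subgroup G)) (fun x hx => absurd (Subgroup.mem_top x) hx)
          he.central.fixed (a := g'), mul_assoc g' eB eB, ← mul_assoc g,
        (mem_blks.1 hg1).mul_eq_zero (mem_blks.1 hg1') hne, zero_mul, lmat_zero]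
    have hzero : π * lmat (g * eB) * (π * lmat (g' * eB)) = 0 := by
      calc π * lmat (g * eB) * (π * lmat (g' * eB))
          = π * (lmat (g * eB) * π) * lmat (g' * eB) := by simp only [Matrix.mul_assoc]
        _ = π * (π * lmat (g * eB)) * lmat (g' * eB) := by rw [← (he.comm (mk g hg1)).eq]
        _ = 0 := by simp only [Matrix.mul_assoc, hz, Matrix.mul_zero]
    rw [heq _ (conjFixed_mul (hgfix g hg1) hBfix), heq _ (conjFixed_mul (hgfix g' hg1') hBfix)]
    have h2 : ∀ (b : MonoidAlgebra F G), ConjFixed (V.map q) b → ∀ (v : V) (x y : G),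
        (π * lmat b) (v • x) (v • y) = (π * lmat b) x y := by
      intro b hb v x y
      rw [Matrix.mul_apply, Matrix.mul_apply, ← Equiv.sum_comp (MulAction.toPerm v : Equiv.Perm G)]
      exact Finset.sum_congr rfl fun w _ => by
        rw [MulAction.toPerm_apply]
        exact congrArg₂ (· * ·) (he.equivariant (v : S) x w) (lmat_equivariant hact hb v w y)
    rw [← heq _ (conjFixed_mul (hgfix g hg1) hBfix), ← heq _ (conjFixed_mul (hgfix g' hg1') hBfix),
      ← mask_mul hVp (h2 _ (conjFixed_mul (hgfix g hg1) hBfix))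
        (h2 _ (conjFixed_mul (hgfix g' hg1') hBfix)), hzero, mask_zero]

/-- **The congruence** for the counts of the labels. -/
theorem labelRank_congr {M : Ideal AlgInt} [M.IsMaximal] [CharP (ResField M) p]
    (hM : IsPModular p M) [Fintype S] [Fintype (PairLabel p q (ResField M))] (hS : IsPGroup p S)
    (hact : ∀ (s : S) (x : G), s • x = q s * x * (r s)⁻¹) {π : Matrix G G (ResField M)}
    {eB : MonoidAlgebra (ResField M) G} (he : IsSection p q π eB)
    (a : PairLabel p q (ResField M)) :
    (Nat.card (MulAction.stabilizer S a) : ℤ) ∣ ∑ n : MulAction.stabilizer S a,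
      ∑ c ∈ Finset.univ.filter (fun c : PairLabel p q (ResField M) =>
        c.grp = a.grp ⊔ Subgroup.zpowers (n : S) ∧ (pairLabelSet p q (ResField M)).le a c),
          labelRank π eB c := by
  set N := MulAction.stabilizer S a with hN
  have hUN : a.grp ≤ N := fun t ht => (pairLabelSet p q (ResField M)).fix a t ht
  have hUfix : ∀ (n : N) (x : G), n • x ∈ MulAction.fixedPoints a.grp G ↔
      x ∈ MulAction.fixedPoints a.grp G := by
    intro n x
    have hgrp : a.grp.map (MulAut.conj (n : S)).toMonoidHom = a.grp :=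
      congrArg PairLabel.grp (show (n : S) • a = a from n.2)
    constructor
    · intro h u
      have h1 := h ⟨(n : S) * u * (n : S)⁻¹, hgrp.le ⟨u, u.2, rfl⟩⟩
      change ((n : S) * (u : S) * (n : S)⁻¹) • (n : S) • x = (n : S) • x at h1
      rw [smul_smul, inv_mul_cancel_right, mul_smul] at h1
      exact smul_left_cancel (n : S) h1
    · intro h u
      obtain ⟨u', hu', hue⟩ := (hgrp.symm ▸ u.2 : (u : S) ∈ a.grp.map (MulAut.conj (n : S)).toMonoidHom)
      show (u : S) • (n : S) • x = (n : S) • x
      rw [← hue]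
      show ((n : S) * u' * (n : S)⁻¹) • (n : S) • x = (n : S) • x
      rw [smul_smul, inv_mul_cancel_right, mul_smul]
      exact congrArg ((n : S) • ·) (h ⟨u', hu'⟩)
  have hbfix : ConjFixed (N.map q) a.idem := by
    rw [conjFixed_iff]
    rintro _ ⟨v, hv, rfl⟩
    exact congrArg PairLabel.idem (show v • a = a from hv)
  have hBfix : ConjFixed (N.map q) eB := he.central.fixed.mono le_top
  have hprod : ∀ (v : N) (x y : G), (π * lmat (a.idem * eB)) (v • x) (v • y) =
      (π * lmat (a.idem * eB)) x y := by
    intro v x y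
    rw [Matrix.mul_apply, Matrix.mul_apply, ← Equiv.sum_comp (MulAction.toPerm v : Equiv.Perm G)]
    exact Finset.sum_congr rfl fun w _ => by
      rw [MulAction.toPerm_apply]
      exact congrArg₂ (· * ·) (he.equivariant (v : S) x w)
        (lmat_equivariant hact (conjFixed_mul hbfix hBfix) v w y)
  set P := mask (MulAction.fixedPoints a.grp G) (π * lmat (a.idem * eB)) with hP
  have hPP : P * P = P := by
    rw [hP, ← mask_mul (hS.to_subgroup a.grp) (fun u => hprod ⟨u, hUN u.2⟩)
      (fun u => hprod ⟨u, hUN u.2⟩), idem_mul_sq he]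
  have hPeq : ∀ (n : N) (x y : G), P (n • x) (n • y) = P x y := by
    intro n x y
    simp only [hP, mask_apply, hUfix, hprod]
  have key := card_dvd_sum_rank hM (hS.to_subgroup N) P hPP hPeq
  rw [← Int.natCast_dvd_natCast, Nat.cast_sum] at key
  convert key using 1
  refine Finset.sum_congr rfl fun n _ => ?_
  have hmask : mask {x : G | n • x = x} P = mask (MulAction.fixedPoints
      ↥(a.grp ⊔ Subgroup.zpowers (n : S)) G) (π * lmat (a.idem * eB)) := by
    rw [hP, mask_mask, fixedPoints_sup, Set.inter_comm]
    rfl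
  rw [hmask, rank_mask_eq_sum hS hact he a (sup_le hUN (Subgroup.zpowers_le.2 n.2)) le_sup_left]

end Congr

end CfsgLib.StarAction
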