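import Cfsg.Agent.Lib.StarAction.Weights
import Cfsg.Agent.Lib.BlockRank.Subsection
import Cfsg.Agent.Lib.Blk83.SubsectionWeight
import Cfsg.Agent.Lib.Char.Exceptional

/-!
# The twist of a character by a linear character of the defect group

On the section of a `p`-element `u` the function is the sum over the blocks of the centralizer
of `u` of the weight of the block times the block part of the translated character.
-/

set_option autoImplicit false

namespace CfsgLib.StarAction

open Cfsg CfsgLib.Blocks CfsgLib.Blocks.Pairs CfsgLib.BlockRank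
open scoped Classical ComplexConjugate

universe u

variable {G : Type u} [Group G] [Fintype G] {p : ℕ} {M : Ideal AlgInt} [M.IsMaximal]

/-- The weight of a block of the centralizer of `u`. -/
noncomputable def blkWt (p : ℕ) (P : Subgroup G) (e : MonoidAlgebra (ResField M) G)
    (lam : P →* ℂˣ) (u : G)
    (b : {b : Set (IrrCharacter (Subgroup.centralizer ({u} : Set G))) // IsPBlock M b}) : ℂ :=
  wt p P e lam (Subgroup.zpowers u) (eIn b.2) u

/-- The weighted sum of the block parts. -/
noncomputable def phiW (p : ℕ) (P : Subgroup G) (e : MonoidAlgebra (ResField M) G)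
    (lam : P →* ℂˣ) (u : G) (θ : Subgroup.centralizer ({u} : Set G) → ℂ)
    (s : Subgroup.centralizer ({u} : Set G)) : ℂ :=
  haveI := Fintype.ofFinite
    {b : Set (IrrCharacter (Subgroup.centralizer ({u} : Set G))) // IsPBlock M b}
  ∑ b : {b : Set (IrrCharacter (Subgroup.centralizer ({u} : Set G))) // IsPBlock M b},
    blkWt p P e lam u b * blockPart b.1 θ s

variable {P : Subgroup G} {e : MonoidAlgebra (ResField M) G} {lam lam' : P →* ℂˣ}

theorem phiW_eq (u : G)
    [Fintype {b : Set (IrrCharacter (Subgroup.centralizer ({u} : Set G))) // IsPBlock M b}]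
    (θ : Subgroup.centralizer ({u} : Set G) → ℂ) (s : Subgroup.centralizer ({u} : Set G)) :
    phiW p P e lam u θ s =
      ∑ b : {b : Set (IrrCharacter (Subgroup.centralizer ({u} : Set G))) // IsPBlock M b},
        blkWt p P e lam u b * blockPart b.1 θ s := by
  unfold phiW
  convert rfl

/-- Projections to a block at regular elements only depend on the regular values. -/
theorem blockPart_congr_regular [Fact p.Prime] {H : Type u} [Group H] [Fintype H]
    (hM : IsPModular p M) {b : Set (IrrCharacter H)} (hb : IsPBlock M b) {θ θ' : H → ℂ}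
    (h : ∀ c, IsPRegular p c → θ c = θ' c) {s : H} (hs : IsPRegular p s) :
    blockPart b θ s = blockPart b θ' s := by
  haveI := Fintype.ofFinite b
  rw [blockPart_eq_projKer, blockPart_eq_projKer]
  refine Finset.sum_congr rfl fun c _ => ?_
  by_cases hc : IsPRegular p c
  · rw [h c hc]
  · rw [projKer_eq_zero hM hb hs hc, zero_mul, zero_mul]

theorem isClassFunction_blockPart {H : Type u} [Group H] [Fintype H] (b : Set (IrrCharacter H))
    (θ : H → ℂ) : IsClassFunction H (blockPart b θ) := by
  haveI := Fintype.ofFinite b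
  intro g h
  rw [blockPart_apply, blockPart_apply]
  exact Finset.sum_congr rfl fun ψ _ => by rw [CfsgLib.Char.IsIrrCharacter.isClassFunction ψ.2 g h]

theorem isClassFunction_phiW (u : G) (θ : Subgroup.centralizer ({u} : Set G) → ℂ) :
    IsClassFunction (Subgroup.centralizer ({u} : Set G)) (phiW p P e lam u θ) := by
  intro g h
  exact Finset.sum_congr rfl fun b _ => by rw [isClassFunction_blockPart b.1 θ g h]

/-- The block parts of a weighted sum are the weighted block parts. -/
theorem blockPart_phiW (hM : IsPModular p M) (u : G)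
    (θ : Subgroup.centralizer ({u} : Set G) → ℂ)
    (b : {b : Set (IrrCharacter (Subgroup.centralizer ({u} : Set G))) // IsPBlock M b}) :
    blockPart b.1 (phiW p P e lam u θ) = fun s => blkWt p P e lam u b * blockPart b.1 θ s := by
  haveI := Fintype.ofFinite
    {b : Set (IrrCharacter (Subgroup.centralizer ({u} : Set G))) // IsPBlock M b}
  let β : IrrCharacter (Subgroup.centralizer ({u} : Set G)) →
      {b : Set (IrrCharacter (Subgroup.centralizer ({u} : Set G))) // IsPBlock M b} := fun χ =>
    ⟨blockOf M (χ : _ → ℂ), χ, rfl⟩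
  have hβ : ∀ (b' : {b : Set (IrrCharacter (Subgroup.centralizer ({u} : Set G))) // IsPBlock M b})
      (χ : IrrCharacter (Subgroup.centralizer ({u} : Set G))), χ ∈ b'.1 → β χ = b' := fun b' χ hχ =>
    Subtype.ext (CfsgLib.BlockReg.block_eq_blockOf hM b'.2 hχ).symm
  have hθ : phiW p P e lam u θ = ∑ χ : IrrCharacter (Subgroup.centralizer ({u} : Set G)),
      (blkWt p P e lam u (β χ) * classInner θ (χ : _ → ℂ)) • (χ : _ → ℂ) := by
    funext s
    rw [phiW_eq, Finset.sum_apply, ← Finset.sum_fiberwise Finset.univ β]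
    refine Finset.sum_congr rfl fun b' _ => ?_
    haveI := Fintype.ofFinite b'.1
    rw [blockPart_apply, Finset.mul_sum]
    refine Finset.sum_congr ?_ fun χ hχ => ?_
    · ext χ
      simp only [Set.mem_toFinset, Finset.mem_filter, Finset.mem_univ, true_and]
      exact ⟨hβ b' χ, fun h => h ▸ CfsgLib.BlockReg.sameBlock_refl hM _⟩
    · simp only [Finset.mem_filter, Finset.mem_univ, true_and] at hχ
      rw [Pi.smul_apply, smul_eq_mul, hχ, mul_assoc]
  funext s
  haveI := Fintype.ofFinite b.1
  rw [blockPart_apply, blockPart_apply, Finset.mul_sum]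
  refine Finset.sum_congr rfl fun χ hχ => ?_
  rw [hθ, CfsgLib.Char.classInner_sum_smul_irr, hβ b χ (Set.mem_toFinset.1 hχ), mul_assoc]

theorem phiW_trivial (hM : IsPModular p M) (u : G)
    {θ : Subgroup.centralizer ({u} : Set G) → ℂ} (hθ : IsClassFunction _ θ) :
    phiW p P e (1 : P →* ℂˣ) u θ = θ := by
  haveI := Fintype.ofFinite
    {b : Set (IrrCharacter (Subgroup.centralizer ({u} : Set G))) // IsPBlock M b}
  funext s
  rw [phiW_eq, sum_blockPart_blocks hM hθ s]
  exact Finset.sum_congr rfl fun b _ => by rw [blkWt, wt_trivial, one_mul]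

theorem phiW_one (hM : IsPModular p M)
    {θ : Subgroup.centralizer ({(1 : G)} : Set G) → ℂ} (hθ : IsClassFunction _ θ) :
    phiW p P e lam 1 θ = θ := by
  haveI := Fintype.ofFinite
    {b : Set (IrrCharacter (Subgroup.centralizer ({(1 : G)} : Set G))) // IsPBlock M b}
  funext s
  rw [phiW_eq, sum_blockPart_blocks hM hθ s]
  exact Finset.sum_congr rfl fun b _ => by rw [blkWt, wt_apply_one, one_mul]

/-! ### The twisted function -/

/-- The translate of `χ` by `u`. -/
def translate (u : G) (χ : G → ℂ) : Subgroup.centralizer ({u} : Set G) → ℂ := fun c => χ (u * c)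

theorem isClassFunction_translate' {u : G} {χ : G → ℂ} (hχ : IsClassFunction G χ) :
    IsClassFunction (Subgroup.centralizer ({u} : Set G)) (translate u χ) := by
  intro c d
  have hd : Commute (d : G) u := Subgroup.mem_centralizer_singleton_iff.mp d.2
  show χ (u * ((d : G) * c * (d : G)⁻¹)) = χ (u * c)
  rw [← hχ (u * (c : G)) (d : G), ← mul_assoc, ← mul_assoc, ← hd.eq, mul_assoc (d : G) u]

/-- The value on the section of `u`. -/
noncomputable def starAt (p : ℕ) (P : Subgroup G) (e : MonoidAlgebra (ResField M) G)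
    (lam : P →* ℂˣ) (χ : G → ℂ) (u : G) (y : G) : ℂ :=
  if h : y ∈ Subgroup.centralizer ({u} : Set G) then
    phiW p P e lam u (translate u χ) ⟨y, h⟩ else 0

/-- The twist of `χ` by `lam`. -/
noncomputable def starChar (p : ℕ) (P : Subgroup G) (e : MonoidAlgebra (ResField M) G)
    (lam : P →* ℂˣ) (χ : G → ℂ) (g : G) : ℂ :=
  if h : ∃ x, IsPPart p g x then
    starAt p P e lam χ (Classical.choose h) ((Classical.choose h)⁻¹ * g) else 0

variable [Fact p.Prime]

theorem starChar_apply {u : G} (hu : ∃ k : ℕ, orderOf u = p ^ k)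
    (y : Subgroup.centralizer ({u} : Set G)) (hy : IsPRegular p y) (χ : G → ℂ) :
    starChar p P e lam χ (u * (y : G)) = phiW p P e lam u (translate u χ) y := by
  obtain ⟨k, hk⟩ := hu
  have hpart : IsPPart p (u * (y : G)) u :=
    isPPart_of_commute (Subgroup.mem_centralizer_singleton_iff.mp y.2 : Commute (y : G) u).symm hk
      (by unfold IsPRegular at hy; rwa [Subgroup.orderOf_coe])
  have h : ∃ x, IsPPart p (u * (y : G)) x := ⟨u, hpart⟩
  rw [starChar, dif_pos h, IsPPart.unique (Fact.out : p.Prime) (Classical.choose_spec h) hpart,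
    inv_mul_cancel_left, starAt, dif_pos y.2]

theorem exists_decomp (g : G) : ∃ (u : G) (y : Subgroup.centralizer ({u} : Set G)),
    (∃ k : ℕ, orderOf u = p ^ k) ∧ IsPRegular p y ∧ u * (y : G) = g := by
  obtain ⟨u, y, hxy, hc, hk, hy⟩ := exists_isPPart (Fact.out : p.Prime) g
  exact ⟨u, ⟨y, Subgroup.mem_centralizer_singleton_iff.mpr hc.eq.symm⟩, hk,
    by unfold IsPRegular; rwa [Subgroup.orderOf_mk], hxy⟩

theorem isPRegular_one {H : Type u} [Group H] : IsPRegular p (1 : H) := by
  rw [IsPRegular, orderOf_one]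
  exact (Fact.out : p.Prime).not_dvd_one

theorem starChar_trivial (hM : IsPModular p M) {χ : G → ℂ} (hχ : IsClassFunction G χ) :
    starChar p P e (1 : P →* ℂˣ) χ = χ := by
  funext g
  obtain ⟨u, y, hu, hy, rfl⟩ := exists_decomp (p := p) g
  rw [starChar_apply hu y hy, phiW_trivial hM u (isClassFunction_translate' hχ)]
  rfl

theorem starChar_regular (hM : IsPModular p M) {χ : G → ℂ} (hχ : IsClassFunction G χ) {g : G}
    (hg : IsPRegular p g) : starChar p P e lam χ g = χ g := by
  have hy : g ∈ Subgroup.centralizer ({(1 : G)} : Set G) :=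
    Subgroup.mem_centralizer_singleton_iff.mpr (by rw [mul_one, one_mul])
  have h1 := starChar_apply (p := p) (P := P) (e := e) (lam := lam) (u := (1 : G))
    ⟨0, by simp⟩ ⟨g, hy⟩ (by unfold IsPRegular at hg ⊢; rwa [Subgroup.orderOf_mk]) χ
  rw [one_mul] at h1
  rw [h1, phiW_one hM (isClassFunction_translate' hχ)]
  show χ (1 * g) = χ g
  rw [one_mul]

theorem starChar_apply_one (hM : IsPModular p M) {χ : G → ℂ} (hχ : IsClassFunction G χ) :
    starChar p P e lam χ 1 = χ 1 :=
  starChar_regular hM hχ isPRegular_one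

variable [CharP (ResField M) p]

theorem isClassFunction_starChar (tw : IsTwist p P e lam) {χ : G → ℂ}
    (hχ : IsClassFunction G χ) : IsClassFunction G (starChar p P e lam χ) := by
  intro g₀ x
  obtain ⟨u, y, hu, hy, rfl⟩ := exists_decomp (p := p) g₀
  set u' := x * u * x⁻¹ with hu'
  let C := Subgroup.centralizer ({u} : Set G)
  let C' := Subgroup.centralizer ({u'} : Set G)
  have hmem : ∀ k : G, k ∈ C' ↔ x⁻¹ * k * x ∈ C := by
    intro k
    rw [Subgroup.mem_centralizer_singleton_iff, Subgroup.mem_centralizer_singleton_iff, hu']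
    constructor
    · intro h
      calc x⁻¹ * k * x * u = x⁻¹ * (k * (x * u * x⁻¹)) * x := by group
        _ = x⁻¹ * (x * u * x⁻¹ * k) * x := by rw [h]
        _ = u * (x⁻¹ * k * x) := by group
    · intro h
      calc k * (x * u * x⁻¹) = x * (x⁻¹ * k * x * u) * x⁻¹ := by group
        _ = x * (u * (x⁻¹ * k * x)) * x⁻¹ := by rw [h]
        _ = x * u * x⁻¹ * k := by group
  let φ : C' ≃* C :=
    { toFun := fun k => ⟨x⁻¹ * k * x, (hmem k).1 k.2⟩
      invFun := fun k => ⟨x * k * x⁻¹, (hmem _).2 (by simp [mul_assoc])⟩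
      left_inv := fun k => Subtype.ext (by simp [mul_assoc])
      right_inv := fun k => Subtype.ext (by simp [mul_assoc])
      map_mul' := fun a b => Subtype.ext (by simp [mul_assoc]) }
  have hK : C' = conjSub x C := by
    ext k; rw [mem_conjSub]; exact hmem k
  have hy'C : x * (y : G) * x⁻¹ ∈ C' := (hmem _).2 (by simp [mul_assoc])
  have hconj : x * (u * (y : G)) * x⁻¹ = u' * (⟨x * (y : G) * x⁻¹, hy'C⟩ : C') := by
    rw [hu']; group
  have hk' : ∃ k : ℕ, orderOf u' = p ^ k := by
    obtain ⟨k, hk⟩ := hu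
    exact ⟨k, by rw [← hk, hu']; exact MulEquiv.orderOf_eq (MulAut.conj x) u⟩
  have hy' : IsPRegular p (⟨x * (y : G) * x⁻¹, hy'C⟩ : C') := by
    unfold IsPRegular at hy ⊢
    rwa [Subgroup.orderOf_mk, show orderOf (x * (y : G) * x⁻¹) = orderOf (y : G) from
      MulEquiv.orderOf_eq (MulAut.conj x) _, Subgroup.orderOf_coe]
  rw [hconj, starChar_apply hk' _ hy', starChar_apply hu y hy]
  haveI := Fintype.ofFinite {b : Set (IrrCharacter C) // IsPBlock M b}
  haveI := Fintype.ofFinite {b : Set (IrrCharacter C') // IsPBlock M b}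
  rw [phiW_eq, phiW_eq]
  symm
  let ε : {b : Set (IrrCharacter C) // IsPBlock M b} ≃ {b : Set (IrrCharacter C') // IsPBlock M b} :=
    { toFun := fun b => ⟨pullSet φ b.1, isPBlock_pullSet φ b.2⟩
      invFun := fun b => ⟨pullSet φ.symm b.1, isPBlock_pullSet φ.symm b.2⟩
      left_inv := fun b => Subtype.ext (by
        simp only [pullSet, Set.image_image, pull_symm_pull, Set.image_id'])
      right_inv := fun b => Subtype.ext (by
        simp only [pullSet, Set.image_image, pull_pull_symm, Set.image_id']) }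
  refine Fintype.sum_equiv ε _ _ fun b => ?_
  congr 1
  · show wt p P e lam _ (eIn b.2) u = wt p P e lam _ (eIn (isPBlock_pullSet φ b.2)) u'
    rw [eIn_conj φ x (fun _ => rfl) hK b.2,
      show Subgroup.zpowers u' = conjSub x (Subgroup.zpowers u) from
        ((MonoidHom.map_zpowers (MulAut.conj x).toMonoidHom u).trans rfl).symm]
    exact (wt_conj tw x (Subgroup.mem_zpowers u)).symm
  · have htr : translate u' χ = fun k : C' => translate u χ (φ k) := by
      funext k
      show χ (x * u * x⁻¹ * (k : G)) = χ (u * (x⁻¹ * (k : G) * x))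
      rw [← hχ (u * (x⁻¹ * (k : G) * x)) x]
      congr 1
      group
    show _ = blockPart (pullSet φ b.1) (translate u' χ) _
    rw [htr, CfsgLib.Blk83.blockPart_pullSet φ b.1 (isClassFunction_translate' hχ)]
    congr 1
    exact Subtype.ext (by show (y : G) = x⁻¹ * (x * (y : G) * x⁻¹) * x; group)

/-- Twisting twice is twisting by the product. -/
theorem starChar_starChar (hM : IsPModular p M) {χ : G → ℂ} :
    starChar p P e lam' (starChar p P e lam χ) = starChar p P e (lam * lam') χ := by
  funext g
  obtain ⟨u, y, hu, hy, rfl⟩ := exists_decomp (p := p) g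
  rw [starChar_apply hu y hy, starChar_apply hu y hy]
  haveI := Fintype.ofFinite
    {b : Set (IrrCharacter (Subgroup.centralizer ({u} : Set G))) // IsPBlock M b}
  rw [phiW_eq, phiW_eq]
  refine Finset.sum_congr rfl fun b _ => ?_
  rw [blockPart_congr_regular hM b.2 (θ := translate u (starChar p P e lam χ))
      (θ' := phiW p P e lam u (translate u χ))
    (fun c hc => starChar_apply hu c hc χ) hy, blockPart_phiW hM u _ b, blkWt, blkWt, blkWt,
    wt_mul_lam]
  ring

/-- The twist preserves the norm. -/
theorem classInner_starChar_self (hM : IsPModular p M) (tw : IsTwist p P e lam) {χ : G → ℂ}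
    (hχ : IsClassFunction G χ) :
    classInner (starChar p P e lam χ) (starChar p P e lam χ) = classInner χ χ := by
  unfold classInner
  congr 1
  let X : Finset G := (Finset.univ.image fun g : G => Quotient.out (ConjClasses.mk g)).filter
    fun x => ∃ k : ℕ, orderOf x = p ^ k
  have hout : ∀ g : G, IsConj g (Quotient.out (ConjClasses.mk g)) := fun g =>
    (ConjClasses.mk_eq_mk_iff_isConj.1 (Quotient.out_eq (ConjClasses.mk g))).symm
  have hX : ∀ x ∈ X, ∃ k : ℕ, orderOf x = p ^ k := fun x hx => (Finset.mem_filter.1 hx).2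
  have hXrep : ∀ g : G, (∃ k : ℕ, orderOf g = p ^ k) → ∃! x, x ∈ X ∧ IsConj g x := by
    intro g ⟨k, hk⟩
    refine ⟨Quotient.out (ConjClasses.mk g), ⟨Finset.mem_filter.2
      ⟨Finset.mem_image.2 ⟨g, Finset.mem_univ _, rfl⟩, k, ?_⟩, hout g⟩, ?_⟩
    · obtain ⟨c, hc⟩ := isConj_iff.1 (hout g)
      rw [← hc, ← hk]
      exact MulEquiv.orderOf_eq (MulAut.conj c) g
    · rintro y ⟨hy, hgy⟩
      obtain ⟨g', -, rfl⟩ := Finset.mem_image.1 (Finset.mem_filter.1 hy).1
      rw [show ConjClasses.mk g = ConjClasses.mk g' from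
        ConjClasses.mk_eq_mk_iff_isConj.2 (hgy.trans (hout g').symm)]
  have hst := isClassFunction_starChar tw hχ
  rw [sum_eq_sum_sectionSum (p := p) (f := fun g => starChar p P e lam χ g *
      conj (starChar p P e lam χ g)) (fun g h => by simp only [hst g h]) X hX hXrep,
    sum_eq_sum_sectionSum (p := p) (f := fun g => χ g * conj (χ g))
      (fun g h => by simp only [hχ g h]) X hX hXrep]
  refine Finset.sum_congr rfl fun x hx => ?_
  congr 1
  rw [sectionSum_eq_sum_regSet _ (C := Subgroup.centralizer {x}) rfl,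
    sectionSum_eq_sum_regSet _ (C := Subgroup.centralizer {x}) rfl]
  haveI := Fintype.ofFinite
    {b : Set (IrrCharacter (Subgroup.centralizer ({x} : Set G))) // IsPBlock M b}
  calc ∑ s ∈ regSet (G := Subgroup.centralizer ({x} : Set G)) p,
        starChar p P e lam χ (x * (s : G)) * conj (starChar p P e lam χ (x * (s : G)))
      = ∑ s ∈ regSet (G := Subgroup.centralizer ({x} : Set G)) p,
          phiW p P e lam x (translate x χ) s * conj (phiW p P e lam x (translate x χ) s) :=
        Finset.sum_congr rfl fun s hs => by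
          rw [starChar_apply (hX x hx) s (Finset.mem_filter.1 hs).2]
    _ = ∑ b : {b : Set (IrrCharacter (Subgroup.centralizer ({x} : Set G))) // IsPBlock M b},
          regNorm p b.1 (translate x χ) := by
        rw [sum_regSet_eq_sum_regNorm (p := p) hM (isClassFunction_phiW x _)]
        refine Finset.sum_congr rfl fun b _ => ?_
        rw [regNorm_eq, regNorm_eq, blockPart_phiW hM x _ b]
        refine Finset.sum_congr rfl fun s _ => ?_
        rw [map_mul, mul_mul_mul_comm, mul_comm (blkWt p P e lam x b), blkWt, conj_mul_wt, one_mul]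
    _ = _ := (sum_regSet_eq_sum_regNorm (p := p) hM (isClassFunction_translate' hχ)).symm

/-- A virtual twist of an irreducible character is irreducible. -/
theorem isIrrCharacter_starChar (hM : IsPModular p M) (tw : IsTwist p P e lam)
    (χ : IrrCharacter G) (hgen : IsGeneralizedCharacter G (starChar p P e lam (χ : G → ℂ))) :
    IsIrrCharacter G (starChar p P e lam (χ : G → ℂ)) := by
  have hχ := CfsgLib.Char.IsIrrCharacter.isClassFunction χ.2
  set θ := starChar p P e lam (χ : G → ℂ) with hθ
  choose c hc using fun ψ : IrrCharacter G => CfsgLib.CharExc.exists_int_classInner hgen ψ.2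
  have hexp := CfsgLib.Char.IsClassFunction.eq_sum_classInner
    (CfsgLib.Char.IsGeneralizedCharacter.isClassFunction hgen)
  simp only [hc] at hexp
  have hnorm : ∑ ψ, c ψ * c ψ = 1 := by
    have h1 := classInner_starChar_self hM tw hχ
    rw [CfsgLib.Char.classInner_irr_self χ.2, ← hθ] at h1
    rw [hexp, CfsgLib.Char.classInner_sum_smul_sum_smul] at h1
    simp only [map_intCast] at h1
    exact_mod_cast h1
  obtain ⟨φ, hφ⟩ : ∃ φ, c φ ≠ 0 := by
    by_contra hcon
    push Not at hcon
    simp [hcon] at hnorm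
  have hothers : ∀ ψ, ψ ≠ φ → c ψ = 0 := by
    intro ψ hψ
    by_contra h0
    have h3 : c φ * c φ + c ψ * c ψ ≤ ∑ x, c x * c x := by
      rw [← Finset.sum_pair (f := fun x => c x * c x) (Ne.symm hψ)]
      exact Finset.sum_le_sum_of_subset_of_nonneg (Finset.subset_univ _)
        fun x _ _ => mul_self_nonneg _
    have h4 : 0 < c φ * c φ := mul_self_pos.2 hφ
    have h5 : 0 < c ψ * c ψ := mul_self_pos.2 h0
    omega
  rw [Finset.sum_eq_single φ (fun ψ _ hψ => by rw [hothers ψ hψ, mul_zero]) (by simp)] at hnorm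
  have hθeq : θ = (c φ : ℂ) • (φ : G → ℂ) := by
    rw [hexp]
    exact Finset.sum_eq_single φ (fun ψ _ hψ => by rw [hothers ψ hψ]; simp) (by simp)
  rcases mul_self_eq_one_iff.1 hnorm with h | h
  · rw [hθeq, h, Int.cast_one, one_smul]; exact φ.2
  · exfalso
    have h1 : θ 1 = (χ : G → ℂ) 1 := starChar_apply_one hM hχ
    rw [hθeq, h] at h1
    obtain ⟨m, hm⟩ := CfsgLib.Char.IsIrrCharacter.exists_degree φ.2
    obtain ⟨n, hn⟩ := CfsgLib.Char.IsIrrCharacter.exists_degree χ.2
    have hn0 := CfsgLib.Char.IsIrrCharacter.apply_one_ne_zero χ.2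
    simp [Pi.smul_apply, hm.2, hn.2] at h1 hn0
    have h2 : ((m + n : ℕ) : ℂ) = 0 := by push_cast; linear_combination -h1
    exact hn0 (by exact_mod_cast (Nat.add_eq_zero_iff.1 (Nat.cast_eq_zero.1 h2)).2)

/-- The twist stays in the block. -/
theorem mem_block_of_starChar (hM : IsPModular p M) {B : Set (IrrCharacter G)} (hB : IsPBlock M B)
    {χ ψ : IrrCharacter G} (hχ : χ ∈ B) (hψ : (ψ : G → ℂ) = starChar p P e lam (χ : G → ℂ)) :
    ψ ∈ B := by
  have hχc := CfsgLib.Char.IsIrrCharacter.isClassFunction χ.2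
  by_contra hn
  have h := regClosed_of_isPBlock hM hB χ hχ ψ hn
  rw [classInner, mul_eq_zero] at h
  have h := h.resolve_left (inv_ne_zero (Nat.cast_ne_zero.mpr Nat.card_pos.ne'))
  have heq : ∀ g : G, pRegularPart p (χ : G → ℂ) g * conj ((ψ : G → ℂ) g) =
      ((if IsPRegular p g then Complex.normSq ((χ : G → ℂ) g) else 0 : ℝ) : ℂ) := by
    intro g
    rw [pRegularPart_apply]
    split_ifs with hg
    · rw [hψ, starChar_regular hM hχc hg, Complex.mul_conj]
    · simp
  rw [Finset.sum_congr rfl fun g _ => heq g, ← Complex.ofReal_sum, Complex.ofReal_eq_zero,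
    Finset.sum_eq_zero_iff_of_nonneg fun g _ => by
      split_ifs
      · exact Complex.normSq_nonneg _
      · exact le_rfl] at h
  have h1 := h 1 (Finset.mem_univ _)
  rw [if_pos isPRegular_one, Complex.normSq_eq_zero] at h1
  exact CfsgLib.Char.IsIrrCharacter.apply_one_ne_zero χ.2 h1

end CfsgLib.StarAction
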