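import Cfsg.Agent.Lib.StarAction.PairLabels
import Cfsg.Agent.Lib.StarAction.Star
import Cfsg.Agent.Lib.StarAction.Criterion
import Cfsg.Agent.Lib.Blocks.Pairs.Lift
import Cfsg.Agent.Lib.Blk83.PairCount
import Mathlib.GroupTheory.SchurZassenhaus

/-!
# The twist of an irreducible character is a virtual character
-/

set_option autoImplicit false
set_option maxHeartbeats 800000

namespace CfsgLib.StarAction

open Cfsg CfsgLib.Blocks CfsgLib.Blocks.Pairs Matrix
open scoped Classical ComplexConjugate

universe u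

variable {G : Type u} [Group G] [Fintype G] {p : ℕ} {M : Ideal AlgInt} [M.IsMaximal]

/-- Coefficients read in the local ring. -/
noncomputable def toLoc (a : MonoidAlgebra ℂ G) : MonoidAlgebra (locRing M) G :=
  ofFun fun g => if h : a.coeff g ∈ locRing M then ⟨a.coeff g, h⟩ else 0

theorem coeff_toLoc {a : MonoidAlgebra ℂ G} (ha : Loc M a) (g : G) :
    (((toLoc (M := M) a).coeff g : locRing M) : ℂ) = a.coeff g := by
  simp [toLoc, dif_pos (ha g)]

theorem toLoc_mul {a b : MonoidAlgebra ℂ G} (ha : Loc M a) (hb : Loc M b) :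
    toLoc (M := M) (a * b) = toLoc a * toLoc b := by
  ext g
  rw [coeff_toLoc (ha.mul hb), coeff_mul_group a b, coeff_mul_group (toLoc (M := M) a),
    AddSubmonoidClass.coe_finsetSum]
  exact Finset.sum_congr rfl fun x _ => by rw [MulMemClass.coe_mul, coeff_toLoc ha, coeff_toLoc hb]

theorem map_lmat_toLoc {a : MonoidAlgebra ℂ G} (ha : Loc M a) :
    (lmat (toLoc (M := M) a)).map (red M) = lmat (rd M a) := by
  ext x y
  rw [Matrix.map_apply, lmat_apply, lmat_apply, coeff_rd ha]
  congr 1
  exact Subtype.ext (coeff_toLoc ha _)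

/-- Elements of coprime order of a nilpotent group commute. -/
theorem commute_of_coprime_orderOf {H : Type u} [Group H] [Finite H] [Group.IsNilpotent H] {a b : H}
    (h : Nat.Coprime (orderOf a) (orderOf b)) : Commute a b := by
  obtain ⟨e⟩ := (Group.isNilpotent_of_finite_tfae (G := H)).out 0 4 rfl rfl |>.mp inferInstance
  suffices hc : Commute (e.symm a) (e.symm b) by
    have := hc.map e
    simpa using this
  funext q Q
  haveI : Fact (Nat.Prime (q : ℕ)) := ⟨Nat.prime_of_mem_primeFactors q.2⟩
  let π : ((∀ r : (Nat.card H).primeFactors, ∀ R : Sylow r H, (↑R : Subgroup H))) →* (Q : Subgroup H) :=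
    (Pi.evalMonoidHom (fun R : Sylow q H => (↑R : Subgroup H)) Q).comp
      (Pi.evalMonoidHom (fun r : (Nat.card H).primeFactors => ∀ R : Sylow r H, (↑R : Subgroup H)) q)
  have ha : orderOf (π (e.symm a)) ∣ orderOf a := by
    rw [← e.symm.orderOf_eq a]; exact orderOf_map_dvd π _
  have hb : orderOf (π (e.symm b)) ∣ orderOf b := by
    rw [← e.symm.orderOf_eq b]; exact orderOf_map_dvd π _
  obtain ⟨i, hi⟩ := IsPGroup.iff_orderOf.mp Q.isPGroup' (π (e.symm a))
  obtain ⟨j, hj⟩ := IsPGroup.iff_orderOf.mp Q.isPGroup' (π (e.symm b))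
  show π (e.symm a) * π (e.symm b) = π (e.symm b) * π (e.symm a)
  rcases Nat.eq_zero_or_pos i with rfl | hipos
  · rw [pow_zero, orderOf_eq_one_iff] at hi; rw [hi, one_mul, mul_one]
  rcases Nat.eq_zero_or_pos j with rfl | hjpos
  · rw [pow_zero, orderOf_eq_one_iff] at hj; rw [hj, one_mul, mul_one]
  exfalso
  have hp1 : (q : ℕ) ∣ orderOf a := (dvd_pow_self _ hipos.ne').trans (hi ▸ ha)
  have hp2 : (q : ℕ) ∣ orderOf b := (dvd_pow_self _ hjpos.ne').trans (hj ▸ hb)
  exact (Nat.prime_of_mem_primeFactors q.2).ne_one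
    (Nat.eq_one_of_dvd_coprimes h hp1 hp2)

/-- The trace of the two-sided action times an element of the group algebra times a block. -/
theorem sum_coeff_mul_exact (B : Set (IrrCharacter G)) [Fintype B] (a : MonoidAlgebra ℂ G)
    (g h : G) :
    ∑ x : G, (a * exact B).coeff (x * g * x⁻¹ * h⁻¹) =
      ∑ c : G, a.coeff c * ∑ ψ ∈ B.toFinset, (ψ : G → ℂ) g⁻¹ * (ψ : G → ℂ) (c * h) := by
  simp only [coeff_mul_group a (exact B)]
  rw [Finset.sum_comm]
  refine Finset.sum_congr rfl fun c _ => ?_
  rw [← Finset.mul_sum]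
  congr 1
  simp only [exact, coeff_ofFun, blockCoeff, finsum_mem_eq_toFinset_sum]
  rw [← Finset.mul_sum, Finset.sum_comm, Finset.mul_sum]
  refine Finset.sum_congr rfl fun ψ _ => ?_
  have h1 := CfsgLib.Blk83.sum_conj_mul ψ g⁻¹ (c * h)
  have h2 : ∀ x : G, conj ((ψ : G → ℂ) (c⁻¹ * (x * g * x⁻¹ * h⁻¹))) =
      (ψ : G → ℂ) (x * g⁻¹ * x⁻¹ * (c * h)) := by
    intro x
    have hc := CfsgLib.Char.IsIrrCharacter.isClassFunction ψ.2
    rw [← CfsgLib.Char.IsIrrCharacter.apply_inv ψ.2,
      show (c⁻¹ * (x * g * x⁻¹ * h⁻¹))⁻¹ = h * (x * g⁻¹ * x⁻¹) * c by group,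
      CfsgLib.Char.IsClassFunction.mul_comm' hc (h * (x * g⁻¹ * x⁻¹)) c, ← mul_assoc,
      CfsgLib.Char.IsClassFunction.mul_comm' hc (c * h) (x * g⁻¹ * x⁻¹)]
  rw [Finset.sum_congr rfl fun x _ => by rw [h2 x], ← Finset.mul_sum,
    mul_comm ((ψ : G → ℂ) 1), h1, Nat.card_eq_fintype_card, ← mul_assoc,
    inv_mul_cancel₀ (Nat.cast_ne_zero.2 Fintype.card_ne_zero), one_mul]

variable {P : Subgroup G} {e : MonoidAlgebra (ResField M) G} {lam : P →* ℂˣ}

/-- The kernel of the twist on the pairs of elements. -/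
noncomputable def mu (p : ℕ) (P : Subgroup G) (e : MonoidAlgebra (ResField M) G) (lam : P →* ℂˣ)
    (B : Set (IrrCharacter G)) [Fintype B] (x : G × G) : ℂ :=
  ∑ ψ ∈ B.toFinset, (ψ : G → ℂ) x.1⁻¹ * starChar p P e lam (ψ : G → ℂ) x.2

variable [Fact p.Prime] [CharP (ResField M) p]

theorem isClassFunction_mu (tw : IsTwist p P e lam) (B : Set (IrrCharacter G)) [Fintype B] :
    IsClassFunction (G × G) (mu p P e lam B) := by
  intro x y
  refine Finset.sum_congr rfl fun ψ _ => ?_
  have hc := CfsgLib.Char.IsIrrCharacter.isClassFunction ψ.2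
  congr 1
  · show (ψ : G → ℂ) (y.1 * x.1 * y.1⁻¹)⁻¹ = _
    rw [show (y.1 * x.1 * y.1⁻¹)⁻¹ = y.1 * x.1⁻¹ * y.1⁻¹ by group]
    exact hc _ _
  · exact isClassFunction_starChar tw hc x.2 y.2

/-- **The kernel of the twist is a virtual character.** -/
theorem isGeneralizedCharacter_mu (hM : IsPModular p M) {B : Set (IrrCharacter G)} [Fintype B]
    (hB : IsPBlock M B) (hP : PairOf p (ebar hB) P e) (hno : NoExt p P e)
    (tw : IsTwist p P e lam) : IsGeneralizedCharacter (G × G) (mu p P e lam B) := by
  have hp : p.Prime := Fact.out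
  refine isGeneralizedCharacter_of_linear _ (isClassFunction_mu tw B) fun H hnil _ η => ?_
  haveI := hnil
  -- the decomposition of `H`
  let Sy : Sylow p H := default
  haveI hSn : (Sy : Subgroup H).Normal :=
    ((Group.isNilpotent_of_finite_tfae (G := H)).out 0 3 rfl rfl).mp hnil p ⟨hp⟩ Sy
  obtain ⟨C, hC⟩ := Subgroup.exists_right_complement'_of_coprime (Sy.card_coprime_index)
  have hCidx : Nat.card C = (Sy : Subgroup H).index := hC.symm.index_eq_card.symm
  have hCp : ¬ p ∣ Nat.card C := hCidx ▸ Sy.not_dvd_index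
  have hreg : ∀ c : C, ¬ p ∣ orderOf (c : H) := fun c hd =>
    hCp (hd.trans (by rw [Subgroup.orderOf_coe]; exact orderOf_dvd_natCard c))
  obtain ⟨S, hSdef⟩ : ∃ S : Subgroup H, S = (Sy : Subgroup H) := ⟨_, rfl⟩
  have hS : IsPGroup p S := hSdef ▸ Sy.isPGroup'
  rw [← hSdef] at hC
  haveI : Fintype S := Fintype.ofFinite _
  haveI : Fintype C := Fintype.ofFinite _
  have hcomm : ∀ (s : S) (c : C), Commute (s : H) c := fun s c => by
    obtain ⟨k, hk⟩ := IsPGroup.iff_orderOf.mp hS s
    refine commute_of_coprime_orderOf ?_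
    rw [Subgroup.orderOf_coe, hk]
    exact Nat.Coprime.pow_left _ (hp.coprime_iff_not_dvd.2 (hreg c))
  -- the two-sided action
  let r : S →* G := ((MonoidHom.fst G G).comp H.subtype).comp S.subtype
  let q : S →* G := ((MonoidHom.snd G G).comp H.subtype).comp S.subtype
  letI actH : MulAction H G :=
    { smul := fun h x => (h : G × G).2 * x * ((h : G × G).1)⁻¹
      one_smul := fun x => by
        show ((1 : H) : G × G).2 * x * (((1 : H) : G × G).1)⁻¹ = x
        simp
      mul_smul := fun g h x => by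
        show ((g * h : H) : G × G).2 * x * (((g * h : H) : G × G).1)⁻¹ =
          (g : G × G).2 * ((h : G × G).2 * x * ((h : G × G).1)⁻¹) * ((g : G × G).1)⁻¹
        simp only [Subgroup.coe_mul, Prod.snd_mul, Prod.fst_mul]
        group }
  have hactH : ∀ (h : H) (x : G), h • x = (h : G × G).2 * x * ((h : G × G).1)⁻¹ := fun _ _ => rfl
  have hact : ∀ (s : S) (x : G), s • x = q s * x * (r s)⁻¹ := fun _ _ => rfl
  -- the idempotent of the linear character on `C`
  have hunit : IsUnit ((Nat.card C : ℕ) : locRing M) := isUnit_of_red_ne_zero (by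
    rw [red_natCast]; exact fun h => hCp ((CharP.cast_eq_zero_iff _ p _).1 h))
  obtain ⟨iu, hiu⟩ := hunit.exists_left_inv
  have hηint : ∀ c : C, conj ((η (c : H) : ℂˣ) : ℂ) ∈ locRing M := fun c => by
    refine isIntegral_mem_locRing (IsIntegral.of_pow (orderOf_pos c) ?_)
    rw [← map_pow, ← Units.val_pow_eq_pow_val, ← map_pow,
      show ((c : H) ^ orderOf c) = 1 by rw [← Subgroup.coe_pow, pow_orderOf_eq_one]; rfl,
      map_one, Units.val_one, map_one]
    exact isIntegral_one
  let ηR : C → locRing M := fun c => ⟨conj ((η (c : H) : ℂˣ) : ℂ), hηint c⟩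
  have hηmul : ∀ c d : C, ηR (c * d) = ηR c * ηR d := fun c d => Subtype.ext (by
    show conj ((η ((c * d : C) : H) : ℂˣ) : ℂ) = _
    rw [Subgroup.coe_mul, map_mul, Units.val_mul, map_mul]
    rfl)
  let πR : Matrix G G (locRing M) := iu • ∑ c : C, ηR c • actMat (locRing M) (c : H)
  have hπR : ∀ (x y : G), πR x y = iu * ∑ c : C, ηR c * if x = (c : H) • y then 1 else 0 := by
    intro x y
    simp [πR, actMat, Matrix.smul_apply, Matrix.sum_apply]
  have hπidem : πR * πR = πR := by
    have h1 : ∀ d : C, (∑ c : C, ηR c • (actMat (locRing M) (c : H) : Matrix G G _)) *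
        (ηR d • actMat (locRing M) (d : H)) = ∑ c : C, ηR c • actMat (locRing M) (c : H) := by
      intro d
      rw [Finset.sum_mul]
      refine Fintype.sum_equiv (Equiv.mulRight d) _ _ fun c => ?_
      rw [Matrix.smul_mul, Matrix.mul_smul, smul_smul, actMat_mul, Equiv.coe_mulRight, hηmul,
        Subgroup.coe_mul]
    simp only [πR, Matrix.smul_mul, Matrix.mul_smul, smul_smul]
    rw [Finset.mul_sum, Finset.sum_congr rfl fun d _ => h1 d, Finset.sum_const, Finset.card_univ,
      ← Nat.card_eq_fintype_card, ← Nat.cast_smul_eq_nsmul (locRing M), smul_smul, mul_assoc, hiu,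
      mul_one]
  have hπeq : ∀ (s : S) (x y : G), πR (s • x) (s • y) = πR x y := by
    intro s x y
    rw [hπR, hπR]
    congr 1
    refine Finset.sum_congr rfl fun c _ => ?_
    congr 1
    have h1 : (c : H) • s • y = s • (c : H) • y := by
      show (c : H) • (s : H) • y = (s : H) • (c : H) • y
      rw [smul_smul, smul_smul, (hcomm s c).eq]
    rw [h1]
    simp only [smul_left_cancel_iff]
  have hcommA : ∀ (a : MonoidAlgebra (locRing M) G),
      (∀ (c : C) (x : G), a.coeff ((c : G × G).2 * x * ((c : G × G).2)⁻¹) = a.coeff x) →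
        Commute πR (lmat a) := by
    intro a ha
    refine Commute.smul_left (Commute.sum_left _ _ _ fun c _ => Commute.smul_left ?_ _) _
    refine Matrix.ext fun x y => ?_
    rw [actMat_mul_apply, mul_actMat_apply, lmat_apply, lmat_apply, hactH, hactH]
    rw [← ha c ((((c : H)⁻¹ : H) : G × G).2 * x * ((((c : H)⁻¹ : H) : G × G).1)⁻¹ * y⁻¹)]
    congr 1
    simp only [InvMemClass.coe_inv, Prod.snd_inv, Prod.fst_inv]
    group
  -- the blocks
  let π : Matrix G G (ResField M) := πR.map (red M)
  have hzero : ∀ x : G, x ∉ (⊤ : Subgroup G) → ∀ {α : Type} [Zero α] (a : α), a = 0 :=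
    fun x hx => absurd (Subgroup.mem_top x) hx
  have hexB := inCenter_exact B
  have hC2 : ∀ (c : C) (T : Subgroup S),
      ((c : G × G).2) ∈ Subgroup.centralizer ((T.map q : Subgroup G) : Set G) := by
    intro c T
    rw [Subgroup.mem_centralizer_iff]
    rintro _ ⟨t, -, rfl⟩
    exact congrArg (fun h : H => (h : G × G).2) (hcomm t c).eq
  -- the exact idempotent of a block of a subgroup times the exact idempotent of `B`
  have hprodI : ∀ {D : Subgroup G} (b : Set (IrrCharacter D)),
      (exactIn D b * exact B) * (exactIn D b * exact B) = exactIn D b * exact B := by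
    intro D b
    rw [mul_assoc (exactIn D b), ← mul_assoc (exact B),
      ← mul_comm_of_suppIn (H := (⊤ : Subgroup G)) (fun x hx => absurd (Subgroup.mem_top x) hx)
        hexB.fixed (a := exactIn D b), mul_assoc (exactIn D b) (exact B), exact_idem, ← mul_assoc,
      exactIn_idem]
  have hprodF : ∀ {D : Subgroup G} (b : Set (IrrCharacter D)) {u : G}, u ∈ D → ∀ x : G,
      (exactIn D b * exact B).coeff (u * x * u⁻¹) = (exactIn D b * exact B).coeff x :=
    fun {D} b {u} hu => conjFixed_mul (inCenter_exactIn D b).fixed (hexB.fixed.mono le_top) u hu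
  have hcommC : ∀ {T : Subgroup S} {D : Subgroup G}
      (hD : D = Subgroup.centralizer ((T.map q : Subgroup G) : Set G)) {b : Set (IrrCharacter D)}
      (hb : IsPBlock M b), Commute πR (lmat (toLoc (M := M) (exactIn D b * exact B))) := by
    intro T D hD b hb
    have hloc : Loc M (exactIn D b * exact B) := (loc_exactIn hb).mul (loc_exact hB)
    refine hcommA _ fun c x => ?_
    apply Subtype.ext
    rw [coeff_toLoc hloc, coeff_toLoc hloc]
    exact hprodF b (hD ▸ hC2 c T) x
  have hsec : IsSection p q π (ebar hB) := by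
    refine ⟨?_, fun s x y => congrArg (red M) (hπeq s x y), fun z => ?_,
      (isBlockIdem_ebar hB).mem, (isBlockIdem_ebar hB).idem⟩
    · show πR.map (red M) * πR.map (red M) = πR.map (red M)
      rw [← Matrix.map_mul, hπidem]
    · obtain ⟨b, hb, hbe⟩ := exists_eIn_eq z.pair.block
      have h1 := (hcommC (T := z.grp) rfl hb).map (red M).mapMatrix
      rw [RingHom.mapMatrix_apply, RingHom.mapMatrix_apply,
        map_lmat_toLoc ((loc_exactIn hb).mul (loc_exact hB)),
        rd_mul (loc_exactIn hb) (loc_exact hB), rd_exactIn hb, rd_exact hB, hbe] at h1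
      exact h1
  haveI : Finite (PairLabel p q (ResField M)) := finite_pairLabel
  haveI := Fintype.ofFinite (PairLabel p q (ResField M))
  -- the weights
  let w : PairLabel p q (ResField M) → S → ℂ := fun z t =>
    wt p P e lam (z.grp.map q) z.idem (q t)
  let ηS : S →* ℂ :=
    ((starRingEnd ℂ).toMonoidHom.comp (Units.coeHom ℂ)).comp (η.comp S.subtype)
  obtain ⟨k, hk⟩ := (pairLabelSet p q (ResField M)).exists_int_sum hS (labelRank π (ebar hB))
    (labelRank_smul hact hsec) (labelRank_congr hM hS hact hsec) w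
    (fun z => by show wt p P e lam _ _ (q 1) = 1; rw [map_one, wt_apply_one])
    (fun z x hx y hy => by
      show wt p P e lam _ _ (q (x * y)) = _
      rw [map_mul, wt_mul tw (show q x ∈ z.grp.map q from ⟨x, hx, rfl⟩)
        (show q y ∈ z.grp.map q from ⟨y, hy, rfl⟩)])
    (fun {a z} h t ht => wt_res hP hno tw h.2 ⟨t, ht, rfl⟩)
    (fun s z t ht => by
      show wt p P e lam ((s • z).grp.map q) (s • z).idem (q (s * t * s⁻¹)) = _
      rw [smul_grp, smul_idem, map_map_conj, map_mul, map_mul, map_inv]
      exact wt_conj tw (q s) ⟨t, ht, rfl⟩)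
    ηS
  refine ⟨k, ?_⟩
  -- the value on the section of `s`
  have hval : ∀ s : S, ∑ c : C, mu p P e lam B (((s : H) * (c : H) : H) : G × G) *
        conj ((η (c : H) : ℂˣ) : ℂ) =
      (Nat.card C : ℂ) * ∑ z ∈ Finset.univ.filter
        (fun z : PairLabel p q (ResField M) => z.grp = Subgroup.zpowers s),
          (labelRank π (ebar hB) z : ℂ) * w z s := by
    intro s
    let u := q s
    let D := Subgroup.centralizer ({u} : Set G)
    have hmapz : (Subgroup.zpowers s).map q = Subgroup.zpowers u := MonoidHom.map_zpowers q s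
    have hD : D = Subgroup.centralizer (((Subgroup.zpowers s).map q : Subgroup G) : Set G) := by
      rw [hmapz, Subgroup.zpowers_eq_closure, Subgroup.centralizer_closure]
    obtain ⟨kk, hkk⟩ := hS s
    have hu : ∃ k : ℕ, orderOf u = p ^ k := by
      obtain ⟨j, -, hj⟩ := (Nat.dvd_prime_pow hp).1
        (orderOf_dvd_of_pow_eq_one (show u ^ p ^ kk = 1 by
          show q s ^ p ^ kk = 1
          rw [← map_pow, hkk, map_one]))
      exact ⟨j, hj⟩
    haveI := Fintype.ofFinite {b : Set (IrrCharacter D) // IsPBlock M b}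
    have hc2D : ∀ c : C, ((c : G × G).2) ∈ D := fun c => hD ▸ hC2 c _
    have hmu : ∀ c : C, mu p P e lam B (((s : H) * (c : H) : H) : G × G) =
        ∑ b : {b : Set (IrrCharacter D) // IsPBlock M b}, blkWt p P e lam u b *
          ∑ x : G, (exactIn D b.1 * exact B).coeff (x * (((s : H) * (c : H)) • x)⁻¹) := by
      intro c
      unfold mu
      have hstar : ∀ ψ : IrrCharacter G, starChar p P e lam (ψ : G → ℂ)
          ((((s : H) * (c : H) : H) : G × G).2) =
            ∑ b : {b : Set (IrrCharacter D) // IsPBlock M b}, blkWt p P e lam u b *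
              ∑ d : G, (exactIn D b.1).coeff d *
                (ψ : G → ℂ) (d * ((((s : H) * (c : H) : H) : G × G).2)) := by
        intro ψ
        rw [show ((((s : H) * (c : H) : H) : G × G).2) = u * ((⟨_, hc2D c⟩ : D) : G) from rfl,
          starChar_apply hu ⟨_, hc2D c⟩ (by
            unfold IsPRegular
            rw [Subgroup.orderOf_mk]
            exact fun hd => hreg c (hd.trans
              (orderOf_map_dvd ((MonoidHom.snd G G).comp H.subtype) (c : H))))]
        rw [phiW_eq]
        refine Finset.sum_congr rfl fun b _ => ?_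
        rw [Cfsg.Agent.S0923.blockPart_eq b.1 _ (isClassFunction_translate'
          (CfsgLib.Char.IsIrrCharacter.isClassFunction ψ.2)), finsum_eq_sum_of_fintype]
        congr 1
        rw [← Finset.sum_subset (Finset.subset_univ
          ((Finset.univ : Finset D).map ⟨Subtype.val, Subtype.val_injective⟩)) (fun x _ hx => ?_),
          Finset.sum_map]
        · refine Finset.sum_congr rfl fun d _ => ?_
          rw [Function.Embedding.coeFn_mk]
          simp only [exactIn, coeff_ofFun, subgroupBlockCoeff, SetLike.coe_mem, dite_true,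
            Subtype.coe_eta, translate, Subgroup.coe_mul]
          congr 2
          rw [← mul_assoc, ← mul_assoc,
            (Subgroup.mem_centralizer_singleton_iff.1 d.2 : (d : G) * u = u * d)]
        · have hxD : x ∉ D := fun h => hx (Finset.mem_map.mpr ⟨⟨x, h⟩, Finset.mem_univ _, rfl⟩)
          simp [exactIn, subgroupBlockCoeff, hxD]
      simp only [hstar, Finset.mul_sum]
      rw [Finset.sum_comm]
      refine Finset.sum_congr rfl fun b _ => ?_
      have hx : ∀ x : G, x * (((s : H) * (c : H)) • x)⁻¹ =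
          x * (((s : H) * (c : H) : H) : G × G).1 * x⁻¹ *
            ((((s : H) * (c : H) : H) : G × G).2)⁻¹ := fun x => by
        rw [hactH]; group
      conv_rhs => rw [← Finset.mul_sum, Finset.sum_congr rfl fun x _ => by rw [hx x],
        sum_coeff_mul_exact]
      simp only [Finset.mul_sum]
      rw [Finset.sum_comm]
      exact Finset.sum_congr rfl fun d _ => Finset.sum_congr rfl fun ψ _ => by ring
    rw [Finset.sum_congr rfl fun c _ => by rw [hmu c]]
    simp only [Finset.sum_mul]
    rw [Finset.sum_comm, Finset.mul_sum]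
    let mk : {b : Set (IrrCharacter D) // IsPBlock M b} → PairLabel p q (ResField M) := fun b =>
      ⟨Subgroup.zpowers s, eIn b.2, (hS.to_subgroup _).map q, hD ▸ isBlockIdem_eIn b.2⟩
    refine Finset.sum_bij (fun b _ => mk b) (fun b _ => Finset.mem_filter.2 ⟨Finset.mem_univ _, rfl⟩)
      (fun a _ b _ h => Subtype.ext (eIn_injective a.2 b.2 (congrArg PairLabel.idem h))) ?_
      fun b _ => ?_
    · intro z hz
      obtain ⟨T, g, hpair⟩ := z
      simp only [Finset.mem_filter, Finset.mem_univ, true_and] at hz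
      subst hz
      obtain ⟨b, hb, hbe⟩ := exists_eIn_eq (H := D) (hD ▸ hpair.block)
      exact ⟨⟨b, hb⟩, Finset.mem_univ _, pairLabel_ext rfl hbe⟩
    · have hloc : Loc M (exactIn D b.1 * exact B) := (loc_exactIn b.2).mul (loc_exact hB)
      have hcm : Commute πR (lmat (toLoc (M := M) (exactIn D b.1 * exact B))) := hcommC hD b.2
      have hEidem : (πR * lmat (toLoc (M := M) (exactIn D b.1 * exact B))) *
          (πR * lmat (toLoc (M := M) (exactIn D b.1 * exact B))) =
          πR * lmat (toLoc (M := M) (exactIn D b.1 * exact B)) := by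
        rw [hcm.symm.mul_mul_mul_comm, hπidem, lmat_mul, ← toLoc_mul hloc hloc, hprodI]
      have huD : u ∈ D := Subgroup.mem_centralizer_singleton_iff.2 rfl
      have hEeq : ∀ x y : G, (πR * lmat (toLoc (M := M) (exactIn D b.1 * exact B))) (s • x) (s • y) =
          (πR * lmat (toLoc (M := M) (exactIn D b.1 * exact B))) x y := by
        intro x y
        rw [Matrix.mul_apply, Matrix.mul_apply,
          ← Equiv.sum_comp (MulAction.toPerm s : Equiv.Perm G)]
        refine Finset.sum_congr rfl fun v _ => ?_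
        rw [MulAction.toPerm_apply, hπeq, lmat_apply, lmat_apply, hact, hact]
        congr 1
        apply Subtype.ext
        rw [coeff_toLoc hloc, coeff_toLoc hloc, ← hprodF b.1 huD (v * y⁻¹)]
        congr 1
        show q s * v * (r s)⁻¹ * (q s * y * (r s)⁻¹)⁻¹ = q s * (v * y⁻¹) * (q s)⁻¹
        group
      have key := trace_eq_rank hM s hkk _ hEidem hEeq
      have hfix : {x : G | s • x = x} = MulAction.fixedPoints (Subgroup.zpowers s) G := by
        ext x
        refine ⟨fun h v => ?_, fun h => h ⟨s, Subgroup.mem_zpowers s⟩⟩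
        have : Subgroup.zpowers s ≤ MulAction.stabilizer S x := Subgroup.zpowers_le.2 h
        exact this v.2
      rw [Matrix.map_mul, map_lmat_toLoc hloc, rd_mul (loc_exactIn b.2) (loc_exact hB), rd_exactIn,
        rd_exact hB, hfix] at key
      have key' : ((∑ x : G, (πR * lmat (toLoc (M := M) (exactIn D b.1 * exact B))) x (s • x) :
          locRing M) : ℂ) = (labelRank π (ebar hB) (mk b) : ℂ) := by
        rw [key]
        simp only [labelRank, mk, π]
        push_cast
        rfl
      have hwb : w (mk b) s = blkWt p P e lam u b := by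
        show wt p P e lam ((Subgroup.zpowers s).map q) (eIn b.2) (q s) = _
        rw [hmapz]
        rfl
      have hiuC : ((iu : locRing M) : ℂ) * (Nat.card C : ℂ) = 1 := by
        have := congrArg (fun z : locRing M => (z : ℂ)) hiu
        simpa using this
      have hexp : ∀ x : G, ((πR * lmat (toLoc (M := M) (exactIn D b.1 * exact B))) x (s • x) : ℂ) =
          (iu : ℂ) * ∑ c : C, conj ((η (c : H) : ℂˣ) : ℂ) *
            (exactIn D b.1 * exact B).coeff (((c : H)⁻¹ • x) * (s • x)⁻¹) := by
        intro x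
        simp only [πR, Matrix.smul_mul, Finset.sum_mul, Matrix.smul_apply, Matrix.sum_apply,
          smul_eq_mul, MulMemClass.coe_mul, AddSubmonoidClass.coe_finsetSum, actMat_mul_apply,
          lmat_apply, coeff_toLoc hloc]
        rfl
      have hre : ∀ c : C, ∑ x : G, (exactIn D b.1 * exact B).coeff (((c : H)⁻¹ • x) * (s • x)⁻¹) =
          ∑ x : G, (exactIn D b.1 * exact B).coeff (x * (((s : H) * (c : H)) • x)⁻¹) := by
        intro c
        rw [← Equiv.sum_comp (MulAction.toPerm (c : H) : Equiv.Perm G)]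
        refine Finset.sum_congr rfl fun x _ => ?_
        rw [MulAction.toPerm_apply, inv_smul_smul, mul_smul]
        rfl
      have key'' : ∑ c : C, conj ((η (c : H) : ℂˣ) : ℂ) *
            ∑ x : G, (exactIn D b.1 * exact B).coeff (x * (((s : H) * (c : H)) • x)⁻¹) =
          (Nat.card C : ℂ) * (labelRank π (ebar hB) (mk b) : ℂ) := by
        rw [← key', AddSubmonoidClass.coe_finsetSum, Finset.sum_congr rfl fun x _ => hexp x,
          ← Finset.mul_sum, ← mul_assoc, mul_comm (Nat.card C : ℂ), hiuC, one_mul, Finset.sum_comm]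
        exact Finset.sum_congr rfl fun c _ => by rw [← hre c, Finset.mul_sum]
      rw [hwb, ← mul_assoc, ← key'', Finset.sum_mul]
      refine Finset.sum_congr rfl fun c _ => ?_
      simp only [Finset.mul_sum, Finset.sum_mul]
      exact Finset.sum_congr rfl fun x _ => by ring
  calc ∑ h : H, mu p P e lam B h * conj ((η h : ℂˣ) : ℂ)
      = ∑ x : S × C, mu p P e lam B (((x.1 : H) * (x.2 : H) : H) : G × G) *
          conj ((η ((x.1 : H) * (x.2 : H)) : ℂˣ) : ℂ) :=
        (Fintype.sum_equiv (Equiv.ofBijective _ hC) _ _ fun x => rfl).symm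
    _ = ∑ s : S, ηS s * ∑ c : C, mu p P e lam B (((s : H) * (c : H) : H) : G × G) *
          conj ((η (c : H) : ℂˣ) : ℂ) := by
        rw [Fintype.sum_prod_type]
        refine Finset.sum_congr rfl fun s _ => ?_
        rw [Finset.mul_sum]
        refine Finset.sum_congr rfl fun c _ => ?_
        rw [map_mul, Units.val_mul, map_mul]
        show _ = conj ((η (s : H) : ℂˣ) : ℂ) * _
        ring
    _ = (Nat.card C : ℂ) * ∑ s : S, ηS s * ∑ z ∈ Finset.univ.filter
          (fun z : PairLabel p q (ResField M) => z.grp = Subgroup.zpowers s),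
            (labelRank π (ebar hB) z : ℂ) * w z s := by
        rw [Finset.mul_sum]
        refine Finset.sum_congr rfl fun s _ => ?_
        rw [hval s]
        ring
    _ = (Nat.card H : ℂ) * k := by
        have hcard : Nat.card S * Nat.card C = Nat.card H := by
          rw [← Nat.card_prod]; exact Nat.card_congr (Equiv.ofBijective _ hC)
        erw [hk]
        rw [← hcard, Nat.cast_mul]
        ring

/-- **The twist of a character of the block is a virtual character.** -/
theorem isGeneralizedCharacter_starChar (hM : IsPModular p M) {B : Set (IrrCharacter G)}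
    (hB : IsPBlock M B) (hP : PairOf p (ebar hB) P e) (hno : NoExt p P e)
    (tw : IsTwist p P e lam) {χ : IrrCharacter G} (hχ : χ ∈ B) :
    IsGeneralizedCharacter G (starChar p P e lam (χ : G → ℂ)) := by
  haveI := Fintype.ofFinite B
  have hmu := isGeneralizedCharacter_mu (lam := lam) hM hB hP hno tw
  have hcl := isClassFunction_starChar tw (CfsgLib.Char.IsIrrCharacter.isClassFunction χ.2)
  rw [CfsgLib.Char.IsClassFunction.eq_sum_classInner hcl]
  refine CfsgLib.Char.IsGeneralizedCharacter.sum _ _ fun ξ _ => ?_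
  set Φ : G × G → ℂ := fun x => conj ((χ : G → ℂ) x.1) * (ξ : G → ℂ) x.2 with hΦ
  have hΦc : IsCharacter (G × G) Φ := by
    have h1 : IsCharacter G (fun g => conj ((χ : G → ℂ) g)) :=
      CfsgLib.Char.IsCharacter.conj_apply' (CfsgLib.Char.IsIrrCharacter.isCharacter χ.2)
    exact CfsgLib.Char.IsCharacter.mul (CfsgLib.Char.IsCharacter.comp h1 (MonoidHom.fst G G))
      (CfsgLib.Char.IsCharacter.comp (CfsgLib.Char.IsIrrCharacter.isCharacter ξ.2)
        (MonoidHom.snd G G))
  obtain ⟨z, hz⟩ : ∃ z : ℤ, classInner (mu p P e lam B) Φ = z := by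
    obtain ⟨a, b, ha, hb, hab⟩ := hmu
    obtain ⟨m, hm⟩ := CfsgLib.Char.IsCharacter.exists_nat_classInner' ha hΦc
    obtain ⟨n, hn⟩ := CfsgLib.Char.IsCharacter.exists_nat_classInner' hb hΦc
    exact ⟨(m : ℤ) - n, by rw [hab, CfsgLib.Char.classInner_sub_left, hm, hn]; simp⟩
  have hkey : classInner (mu p P e lam B) Φ =
      classInner (starChar p P e lam (χ : G → ℂ)) (ξ : G → ℂ) := by
    have horth : ∀ ψ : IrrCharacter G, ∑ g : G, (ψ : G → ℂ) g⁻¹ * (χ : G → ℂ) g =
        if ψ = χ then (Nat.card G : ℂ) else 0 := by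
      intro ψ
      have h := CfsgLib.Char.classInner_irrCharacter χ ψ
      rw [classInner, inv_mul_eq_iff_eq_mul₀ (Nat.cast_ne_zero.2 Nat.card_pos.ne')] at h
      rw [Finset.sum_congr rfl fun g _ => by
        rw [CfsgLib.Char.IsIrrCharacter.apply_inv ψ.2, mul_comm], h]
      by_cases hne : ψ = χ
      · simp [hne]
      · simp [hne, Ne.symm hne]
    have hsum : ∑ x : G × G, mu p P e lam B x * conj (Φ x) =
        (Nat.card G : ℂ) * ∑ g : G, starChar p P e lam (χ : G → ℂ) g * conj ((ξ : G → ℂ) g) := by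
      simp only [mu, Finset.sum_mul, hΦ, map_mul, Complex.conj_conj]
      rw [Finset.sum_comm]
      have hterm : ∀ ψ : IrrCharacter G, ∑ x : G × G, (ψ : G → ℂ) x.1⁻¹ *
          starChar p P e lam (ψ : G → ℂ) x.2 * ((χ : G → ℂ) x.1 * conj ((ξ : G → ℂ) x.2)) =
          (if ψ = χ then (Nat.card G : ℂ) else 0) *
            ∑ g : G, starChar p P e lam (ψ : G → ℂ) g * conj ((ξ : G → ℂ) g) := by
        intro ψ
        rw [← horth ψ, Finset.sum_mul_sum, Fintype.sum_prod_type]
        exact Finset.sum_congr rfl fun g _ => Finset.sum_congr rfl fun h _ => by ring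
      rw [Finset.sum_congr rfl fun ψ _ => hterm ψ]
      simp only [ite_mul, zero_mul, Finset.sum_ite_eq']
      rw [if_pos (Set.mem_toFinset.2 hχ)]
    unfold classInner
    rw [hsum, Nat.card_prod, Nat.cast_mul]
    have hne : (Nat.card G : ℂ) ≠ 0 := Nat.cast_ne_zero.2 Nat.card_pos.ne'
    field_simp
  rw [← hkey, hz]
  exact CfsgLib.Char.IsGeneralizedCharacter.intCast_smul
    (CfsgLib.Char.IsIrrCharacter.isGeneralizedCharacter ξ.2) z

end CfsgLib.StarAction
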